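import Groth.Agent.Lib.SmoothingH7.PowAlg
import Groth.Agent.Lib.SmoothingH7.StrictPow
import Groth.Agent.Lib.SmoothRetractH7.Smooth
import Groth.Agent.Lib.PiHom27.Algebra
import Groth.Agent.Lib.SmoothingH7.BaseChange
import Mathlib.RingTheory.Smooth.Pi
import Mathlib.RingTheory.Localization.BaseChange

/-!
The universal algebra with parameters, and base change of singular ideals.
-/

set_option autoImplicit false

universe u

open MvPolynomial TensorProduct

namespace Groth.Agent.InsepH7

open Groth.Agent.Lib.SmoothingH7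

/-- Singular ideals grow under base change. -/
theorem tmul_mem_singularIdeal {R A : Type u} (R' : Type u) [CommRing R] [CommRing A] [Algebra R A]
    [CommRing R'] [Algebra R R'] [Algebra.FinitePresentation R A] {a : A}
    (ha : a ∈ Smoothing.singularIdeal R A) : (1 : R') ⊗ₜ[R] a ∈ Smoothing.singularIdeal R' (R' ⊗[R] A) := by
  haveI := (mem_singularIdeal_iff a).1 ha
  refine (mem_singularIdeal_iff _).2 (Algebra.FormallySmooth.iff_comp_surjective.2 fun Q _ _ I hI f => ?_)
  let L := Localization.Away a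
  let L' := Localization.Away ((1 : R') ⊗ₜ[R] a)
  letI : Algebra R Q := ((algebraMap R' Q).comp (algebraMap R R')).toAlgebra
  haveI : IsScalarTower R R' Q := IsScalarTower.of_algebraMap_eq' rfl
  let fA : A →ₐ[R] Q ⧸ I := ((f.comp (IsScalarTower.toAlgHom R' (R' ⊗[R] A) L')).restrictScalars R).comp
    Algebra.TensorProduct.includeRight
  have hu : ∀ y : Submonoid.powers a, IsUnit (fA y) := by
    rintro ⟨_, j, rfl⟩
    rw [map_pow]
    exact ((IsLocalization.Away.algebraMap_isUnit (S := L') ((1 : R') ⊗ₜ[R] a)).map f).pow j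
  let fL : L →ₐ[R] Q ⧸ I := IsLocalization.liftAlgHom (M := Submonoid.powers a) (f := fA) hu
  obtain ⟨g, hg⟩ := Algebra.FormallySmooth.comp_surjective R L I hI fL
  have hgA : ∀ x, Ideal.Quotient.mk I (g (algebraMap A L x)) = fA x := fun x =>
    (DFunLike.congr_fun hg (algebraMap A L x)).trans (IsLocalization.lift_eq _ x)
  let g' : R' ⊗[R] A →ₐ[R'] Q := Algebra.TensorProduct.lift (Algebra.ofId R' Q)
    (g.comp (IsScalarTower.toAlgHom R A L)) fun _ _ => Commute.all _ _
  have hg' : ∀ y : Submonoid.powers ((1 : R') ⊗ₜ[R] a), IsUnit (g' y) := by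
    rintro ⟨_, j, rfl⟩
    rw [map_pow]
    refine IsUnit.pow j ?_
    rw [Algebra.TensorProduct.lift_tmul, map_one, one_mul]
    exact (IsLocalization.Away.algebraMap_isUnit (S := L) a).map g
  refine ⟨IsLocalization.liftAlgHom (M := Submonoid.powers ((1 : R') ⊗ₜ[R] a)) (f := g') hg', ?_⟩
  refine IsLocalization.algHom_ext (Submonoid.powers ((1 : R') ⊗ₜ[R] a)) (Algebra.TensorProduct.ext (Subsingleton.elim _ _) ?_)
  refine AlgHom.ext fun x => ?_
  show Ideal.Quotient.mk I (IsLocalization.lift _ (algebraMap _ L' ((1 : R') ⊗ₜ[R] x))) = fA x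
  rw [IsLocalization.lift_eq]
  show Ideal.Quotient.mk I (g' ((1 : R') ⊗ₜ[R] x)) = fA x
  rw [Algebra.TensorProduct.lift_tmul, map_one, one_mul]
  exact hgA x

/-- The universal algebra with `d` parameters whose `n`-th powers lie in the singular ideal. -/
theorem exists_universal {k A : Type u} [Field k] [CommRing A] [Algebra k A] [Algebra.FinitePresentation k A]
    {d r : ℕ} (a : Fin r → A) (n : ℕ) (hspan : Ideal.span (Set.range a) = Smoothing.singularIdeal k A)
    [Algebra (MvPolynomial (Fin d) k) (PowAlg d a n)] [IsScalarTower k (MvPolynomial (Fin d) k) (PowAlg d a n)]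
    (hξ : ∀ i, algebraMap (MvPolynomial (Fin d) k) (PowAlg d a n) (X i) = powX a n i) :
    ∃ (C₀ : Type u) (_ : CommRing C₀) (_ : Algebra (PowAlg d a n) C₀) (_ : Algebra (MvPolynomial (Fin d) k) C₀)
      (_ : IsScalarTower (MvPolynomial (Fin d) k) (PowAlg d a n) C₀)
      (_ : Algebra.FinitePresentation (MvPolynomial (Fin d) k) C₀) (_ : C₀ →ₐ[PowAlg d a n] PowAlg d a n) (M : ℕ),
      0 < M ∧
      (∀ z ∈ Smoothing.singularIdeal k A, algebraMap (PowAlg d a n) C₀ (algebraMap A (PowAlg d a n) z) ∈
        Smoothing.singularIdeal (MvPolynomial (Fin d) k) C₀) ∧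
      ∀ i, Smoothing.IsStrictlyStandard (MvPolynomial (Fin d) k) C₀
        (algebraMap (MvPolynomial (Fin d) k) C₀ ((X i) ^ M)) := by
  classical
  let R := MvPolynomial (Fin d) k
  let B := PowAlg d a n
  haveI : IsNoetherianRing A := Algebra.FiniteType.isNoetherianRing k A
  haveI : Algebra.FiniteType k B := Algebra.FiniteType.trans (inferInstance : Algebra.FiniteType k A) inferInstance
  haveI : Algebra.FiniteType R B := Algebra.FiniteType.of_restrictScalars_finiteType k R B
  haveI : Algebra.FinitePresentation R B := Algebra.FinitePresentation.of_finiteType.1 inferInstance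
  have hgenB : ∀ l, algebraMap A B (a l) ∈ Smoothing.singularIdeal R B := fun l => by
    have hl : a l ∈ Smoothing.singularIdeal k A := hspan ▸ Ideal.subset_span ⟨l, rfl⟩
    haveI := (mem_singularIdeal_iff (a l)).1 hl
    exact (mem_singularIdeal_iff _).2 (formallySmooth_powAlg a n (fun i => (X i : R)) hξ
      (fun g g' h => MvPolynomial.algHom_ext h) l)
  have hAB : ∀ z ∈ Smoothing.singularIdeal k A, algebraMap A B z ∈ Smoothing.singularIdeal R B := by
    intro z hz
    refine (Ideal.span_le.2 ?_ : Ideal.span (Set.range a) ≤ (Smoothing.singularIdeal R B).comap (algebraMap A B)) (hspan.symm ▸ hz)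
    rintro _ ⟨l, rfl⟩
    exact hgenB l
  have hxB : ∀ i, powX a n i ∈ Smoothing.singularIdeal R B := fun i => singularIdeal_isRadical ⟨n, by
    rw [powX_pow]
    exact Ideal.sum_mem _ fun j _ => Ideal.mul_mem_right _ _ (hgenB j)⟩
  obtain ⟨C₀, i₁, i₂, i₃, i₄, hft, ⟨retr⟩, hC⟩ := Groth.Agent.SmoothRetractH7.exists_retract_free_smooth B R
  haveI := hft
  haveI : Algebra.FiniteType R C₀ := Algebra.FiniteType.trans (inferInstance : Algebra.FiniteType R B) hft
  haveI hfp : Algebra.FinitePresentation R C₀ := Algebra.FinitePresentation.of_finiteType.1 inferInstance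
  have hBC : ∀ z ∈ Smoothing.singularIdeal R B, algebraMap B C₀ z ∈ Smoothing.singularIdeal R C₀ := fun z hz =>
    (mem_singularIdeal_iff _).2 (hC z ((mem_singularIdeal_iff z).1 hz)).1
  have hstd₀ : ∀ i, ∃ e₀ : ℕ, ∀ m, e₀ ≤ m →
      Smoothing.IsStrictlyStandard R C₀ (algebraMap B C₀ (powX a n i) ^ m) := fun i => by
    obtain ⟨hs, hf⟩ := hC _ ((mem_singularIdeal_iff _).1 (hxB i))
    let L := Localization.Away (algebraMap B C₀ (powX a n i))
    haveI : Algebra.FinitePresentation C₀ L := IsLocalization.Away.finitePresentation (algebraMap B C₀ (powX a n i))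
    haveI : Algebra.FinitePresentation R L := Algebra.FinitePresentation.trans R C₀ L
    haveI : Algebra.Smooth R L := ⟨hs, inferInstance⟩
    haveI := hf
    let bb := Module.Free.chooseBasis L Ω[L⁄R]
    exact exists_pow_isStrictlyStandard _ 0 (Fintype.card (Module.Free.ChooseBasisIndex L Ω[L⁄R]))
      ((LinearEquiv.prodUnique : (Ω[L⁄R] × (Fin 0 → L)) ≃ₗ[L] Ω[L⁄R]) ≪≫ₗ
        (bb.reindex (Fintype.equivFin _)).equivFun)
  choose e₀ he₀ using hstd₀
  refine ⟨C₀, i₁, i₂, i₃, i₄, hfp, retr, Finset.univ.sup e₀ + 1, Nat.succ_pos _,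
    fun z hz => hBC _ (hAB z hz), fun i => ?_⟩
  rw [map_pow, IsScalarTower.algebraMap_apply R B C₀, hξ]
  exact he₀ i _ ((Finset.le_sup (Finset.mem_univ i)).trans (Nat.le_succ _))

/-- High powers of the ideal of the parameters lie in the ideal of their powers. -/
theorem pow_span_le {R : Type*} [CommRing R] {d : ℕ} (g : Fin d → R) (e m : ℕ) (hm : d * e + 1 ≤ m) :
    Ideal.span (Set.range g) ^ m ≤ Ideal.span (Set.range fun i => g i ^ e) := by
  have h := Groth.Agent.PiHom27.span_pow_le g e Finset.univ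
  rw [Finset.coe_univ, Set.image_univ, Set.image_univ, Finset.card_univ, Fintype.card_fin] at h
  exact (Ideal.pow_le_pow_right hm).trans h

end Groth.Agent.InsepH7
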