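import Groth.Agent.Lib.InsepH7.Chain
import Groth.Agent.Lib.InsepH7.Universal
import Groth.Agent.Lib.SmoothingH7.Iterate
import Groth.Agent.Lib.SmoothingH7.Params
import Groth.Agent.S2034

/-!
Resolving at a prime with geometrically regular local ring in characteristic `p`.
-/

set_option autoImplicit false
set_option linter.style.haveILetI false

universe u

open TensorProduct IsLocalRing

namespace Groth.Agent.InsepH7

open Groth.Agent.Lib.SmoothingH7

/-- A smooth factorization resolves. -/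
theorem resolvable_of_factor {R A Λ B : Type u} [CommRing R] [CommRing A] [Algebra R A] [CommRing Λ] [Algebra R Λ]
    [CommRing B] [Algebra R B] [Algebra.Smooth R B] (φ : A →ₐ[R] Λ) (q : Ideal Λ) (hq : q ≠ ⊤)
    (g : A →ₐ[R] B) (h : B →ₐ[R] Λ) (hgh : h.comp g = φ) : Smoothing.Resolvable R φ q := by
  have htop : Smoothing.singularIdeal R B = ⊤ := by
    rw [Ideal.eq_top_iff_one, mem_singularIdeal_iff]
    haveI : Algebra.FormallyEtale B (Localization.Away (1 : B)) :=
      Algebra.FormallyEtale.of_isLocalization (Submonoid.powers (1 : B))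
    exact Algebra.FormallySmooth.comp R B _
  have hrad : Smoothing.singRad R h = ⊤ := by rw [Smoothing.singRad, htop, Ideal.map_top, Ideal.radical_top]
  exact ⟨B, inferInstance, inferInstance, inferInstance, g, h, hgh, hrad ▸ le_top,
    fun hle => hq (top_le_iff.1 (hrad ▸ hle))⟩

set_option maxHeartbeats 1000000 in
theorem resolvable_insep {k A Λ : Type u} [Field k] (p : ℕ) [Fact p.Prime] [CharP k p] [CommRing A]
    [Algebra k A] [Algebra.FinitePresentation k A] [CommRing Λ] [Algebra k Λ] [IsNoetherianRing Λ]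
    (φ : A →ₐ[k] Λ) (q : Ideal Λ) [q.IsPrime] (hmin : q ∈ (Smoothing.singRad k φ).minimalPrimes)
    [IsRegularLocalRing (Localization.AtPrime q)]
    (hregq : CAlg.IsGeometricallyRegular k (Localization.AtPrime q))
    {d : ℕ} (hd : ringKrullDim (Localization.AtPrime q) = d) (hd0 : 0 < d) : Smoothing.Resolvable k φ q := by
  classical
  haveI : IsNoetherianRing A := Algebra.FiniteType.isNoetherianRing k A
  let Lq := Localization.AtPrime q
  let f := algebraMap Λ Lq
  -- generators of the singular ideal and the exponent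
  obtain ⟨r, a, ha⟩ := Submodule.fg_iff_exists_fin_generating_family.1 (IsNoetherian.noetherian (Smoothing.singularIdeal k A))
  have hspan : Ideal.span (Set.range a) = Smoothing.singularIdeal k A := ha
  let I : Ideal Λ := (Smoothing.singularIdeal k A).map φ
  have hIq : I ≤ q := Ideal.le_radical.trans hmin.1.2
  obtain ⟨n₀, hn₀⟩ : ∃ n, (q.map f) ^ n ≤ I.map f := by
    refine Ideal.exists_pow_le_of_le_radical_of_fg ?_ (IsNoetherian.noetherian _)
    rw [Ideal.map_le_iff_le_comap]
    intro x hx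
    rw [Ideal.mem_comap, Ideal.radical_eq_sInf, Submodule.mem_sInf]
    rintro P ⟨hle, hP⟩
    haveI := hP
    have h1 : Ideal.comap f P ≤ q := fun z hz => by
      by_contra hzq
      exact hP.ne_top (Ideal.eq_top_of_isUnit_mem _ hz (IsLocalization.map_units Lq (⟨z, hzq⟩ : q.primeCompl)))
    have h2 : Smoothing.singRad k φ ≤ Ideal.comap f P :=
      (Ideal.IsPrime.radical_le_iff inferInstance).2 (Ideal.map_le_iff_le_comap.1 hle)
    exact (hmin.2 ⟨inferInstance, h2⟩ h1) hx
  let n := n₀ + 1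
  have hI' : I.map f = Ideal.span (Set.range fun l => f (φ (a l))) := by
    show ((Smoothing.singularIdeal k A).map φ).map f = _
    rw [← hspan, Ideal.map_span, Ideal.map_span, ← Set.range_comp, ← Set.range_comp]
    rfl
  have hqL : q.map f = maximalIdeal Lq := IsLocalization.AtPrime.map_eq_maximalIdeal q Lq
  have hpow : maximalIdeal Lq ^ n ≤ Ideal.span (Set.range fun l => f (φ (a l))) := by
    rw [← hqL, ← hI']
    exact (Ideal.pow_le_pow_right (Nat.le_succ n₀)).trans hn₀
  -- the universal algebra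
  let R₀ := MvPolynomial (Fin d) k
  let B := PowAlg d a n
  letI : Algebra R₀ B := (MvPolynomial.aeval (R := k) (powX a n) : R₀ →ₐ[k] B).toRingHom.toAlgebra
  haveI : IsScalarTower k R₀ B := IsScalarTower.of_algebraMap_eq fun c =>
    ((MvPolynomial.aeval (R := k) (powX a n) : R₀ →ₐ[k] B).commutes c).symm
  have hξ : ∀ i, algebraMap R₀ B (MvPolynomial.X i) = powX a n i := fun i => MvPolynomial.aeval_X _ i
  obtain ⟨C₀, _, _, _, _, _, retr, M, hM, hBC, hstd⟩ := exists_universal a n hspan hξ
  -- coordinates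
  let e := M * 8
  let N := d * e + 2 + n
  let LN := Lq ⧸ maximalIdeal Lq ^ N
  obtain ⟨m, gens, hgens, -⟩ := Algebra.FinitePresentation.out (R := k) (A := A)
  let χ : A →ₐ[k] LN := ((Ideal.Quotient.mkₐ k _).comp (IsScalarTower.toAlgHom k Λ Lq)).comp φ
  obtain ⟨c, hgen, hdim, T, _, _, ι, hι, hE, hinj, hmem, -, _, _, hT⟩ :=
    exists_coord (k := k) (L := Lq) p hregq hd N (by omega) (Finset.univ.image fun j => χ (gens (MvPolynomial.X j)))
  let S' := Localization.AtPrime c.P
  letI : Algebra k T := ((algebraMap S' T).comp (algebraMap k S')).toAlgebra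
  let ιk : T →ₐ[k] LN :=
    { ι with
      commutes' := fun x => by
        show ι (algebraMap S' T (algebraMap k S' x)) = _
        rw [hι, AlgHom.commutes]
        rfl }
  have hχ : ∀ z, χ z ∈ ιk.range := by
    intro z
    obtain ⟨P, rfl⟩ := hgens z
    induction P using MvPolynomial.induction_on with
    | C x => rw [← MvPolynomial.algebraMap_eq, AlgHom.commutes, AlgHom.commutes]; exact Subalgebra.algebraMap_mem _ _
    | add P Q hP hQ => rw [map_add, map_add]; exact add_mem hP hQ
    | mul_X P j hP =>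
      rw [map_mul, map_mul]
      refine mul_mem hP ?_
      obtain ⟨t, ht⟩ := hE _ (Finset.mem_image_of_mem _ (Finset.mem_univ j))
      exact ⟨t, ht⟩
  let ψA : A →ₐ[k] T := (AlgEquiv.ofInjective ιk hinj).symm.toAlgHom.comp (χ.codRestrict ιk.range hχ)
  have hψA : ∀ z, ι (ψA z) = χ z := fun z => by
    show ((AlgEquiv.ofInjective ιk hinj) ((AlgEquiv.ofInjective ιk hinj).symm (χ.codRestrict ιk.range hχ z)) : LN) = χ z
    rw [AlgEquiv.apply_symm_apply]
    rfl
  -- the coefficients
  let gT : Fin d → T := fun j => algebraMap S' T (algebraMap _ S' (c.g j))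
  have hιg : ∀ j, ι (gT j) = Ideal.Quotient.mk _ (c.ev (c.g j)) := fun j => by rw [hι, c.evP_algebraMap]
  have hgm : ∀ j, c.ev (c.g j) ∈ maximalIdeal Lq := fun j => c.span_g.le (Ideal.subset_span ⟨j, rfl⟩)
  have hgT : ∀ j, gT j ^ n ∈ Ideal.span (Set.range fun l => ψA (a l)) := fun j => by
    refine hmem (fun l => ψA (a l)) _ ?_
    rw [map_pow, hιg, ← map_pow]
    have h1 := Ideal.mem_map_of_mem (Ideal.Quotient.mk (maximalIdeal Lq ^ N)) (hpow (Ideal.pow_mem_pow (hgm j) n))
    rw [Ideal.map_span, ← Set.range_comp] at h1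
    convert h1 using 4
    funext l
    exact hψA (a l)
  choose cbar hcbar using fun j => (Submodule.mem_span_range_iff_exists_fun T).1 (hgT j)
  choose γ hγ using fun j l => Ideal.Quotient.mk_surjective (ι (cbar j l))
  have herr : ∀ j, ∃ η : Fin r → Lq, (∀ l, η l ∈ maximalIdeal Lq ^ (d * e + 2)) ∧
      c.ev (c.g j) ^ n = ∑ l, f (φ (a l)) * (γ j l + η l) := by
    intro j
    have h1 : c.ev (c.g j) ^ n - ∑ l, γ j l * f (φ (a l)) ∈ maximalIdeal Lq ^ N := by
      rw [← Ideal.Quotient.eq, map_pow, ← hιg, ← map_pow, ← hcbar j, map_sum, map_sum]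
      refine Finset.sum_congr rfl fun l _ => ?_
      rw [smul_eq_mul, map_mul, map_mul, hγ, hψA]
      rfl
    have h2 : maximalIdeal Lq ^ N ≤ maximalIdeal Lq ^ (d * e + 2) • Ideal.span (Set.range fun l => f (φ (a l))) := by
      show maximalIdeal Lq ^ (d * e + 2 + n) ≤ _
      rw [pow_add, smul_eq_mul]
      exact Ideal.mul_mono le_rfl hpow
    obtain ⟨η, hη, hsum⟩ := (Submodule.mem_ideal_smul_span_iff_exists_sum _ _ _).1 (h2 h1)
    refine ⟨η, hη, ?_⟩
    have hsum : ∑ l, η l * f (φ (a l)) = c.ev (c.g j) ^ n - ∑ l, γ j l * f (φ (a l)) :=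
      (Finsupp.sum_fintype η (fun l c => c • f (φ (a l))) (fun l => zero_mul _)).symm.trans hsum
    simp only [mul_add, Finset.sum_add_distrib]
    rw [← sub_eq_iff_eq_add', Finset.sum_congr rfl fun l _ => mul_comm (f (φ (a l))) (γ j l), ← hsum]
    exact Finset.sum_congr rfl fun l _ => by rw [mul_comm]
  choose η hη hcf using herr
  obtain ⟨Ch⟩ := exists_chain hd c hgen hdim (fun l => φ (a l)) (fun j l => γ j l + η j l) (n := n) (e := e)
    (Nat.succ_pos _) (Nat.mul_pos hM (by norm_num)) hcf d le_rfl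
  obtain ⟨D, el, u, cc, hloc, hsR, hsL, hpw, hcc⟩ := Ch
  let R := D.R
  haveI : IsNoetherianRing R := D.isNoetherian
  -- algebra structures
  letI : Algebra R₀ R := (MvPolynomial.aeval (R := k) el : R₀ →ₐ[k] R).toRingHom.toAlgebra
  letI : Algebra R Λ := D.v.toRingHom.toAlgebra
  letI : Algebra R₀ Λ := ((algebraMap R Λ).comp (algebraMap R₀ R)).toAlgebra
  haveI : IsScalarTower R₀ R Λ := IsScalarTower.of_algebraMap_eq' rfl
  haveI : IsScalarTower k R Λ := IsScalarTower.of_algebraMap_eq fun x => (D.v.commutes x).symm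
  haveI : IsScalarTower k R₀ R := IsScalarTower.of_algebraMap_eq fun x =>
    ((MvPolynomial.aeval (R := k) el : R₀ →ₐ[k] R).commutes x).symm
  haveI : IsScalarTower k R₀ Λ := IsScalarTower.of_algebraMap_eq fun x => by
    show _ = algebraMap R Λ (algebraMap R₀ R (algebraMap k R₀ x))
    rw [← IsScalarTower.algebraMap_apply k R₀ R, ← IsScalarTower.algebraMap_apply k R Λ]
  have helX : ∀ i, algebraMap R₀ R (MvPolynomial.X i) = el i := fun i => MvPolynomial.aeval_X _ i
  letI : Algebra A Λ := φ.toRingHom.toAlgebra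
  haveI : IsScalarTower k A Λ := IsScalarTower.of_algebraMap_eq fun z => (φ.commutes z).symm
  obtain ⟨φB, hφx, hφy⟩ := exists_powAlg_hom a n (fun i => D.v (el i)) cc fun i => hpw i i.2
  let φBk : B →ₐ[k] Λ :=
    { φB.toRingHom with
      commutes' := fun z => by
        show φB (algebraMap k B z) = _
        rw [IsScalarTower.algebraMap_apply k A B, φB.commutes]
        exact φ.commutes z }
  let φBR : B →ₐ[R₀] Λ :=
    { φB.toRingHom with
      commutes' := fun z => DFunLike.congr_fun (MvPolynomial.algHom_ext (f := φBk.comp (IsScalarTower.toAlgHom k R₀ B))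
        (g := IsScalarTower.toAlgHom k R₀ Λ) fun i => by
          show φB (algebraMap R₀ B (MvPolynomial.X i)) = algebraMap R Λ (algebraMap R₀ R (MvPolynomial.X i))
          rw [hξ, helX, hφx]
          rfl) z }
  let φC : C₀ →ₐ[R₀] Λ := φBR.comp (retr.restrictScalars R₀)
  have hφC : ∀ b, φC (algebraMap B C₀ b) = φB b := fun b => by
    show φB (retr (algebraMap B C₀ b)) = _
    rw [retr.commutes]
    rfl
  let C' := R ⊗[R₀] C₀
  let φ' : C' →ₐ[R] Λ := Algebra.TensorProduct.lift (Algebra.ofId R Λ) φC fun _ _ => Commute.all _ _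
  have hφ'C : ∀ x, φ' ((1 : R) ⊗ₜ x) = φC x := fun x => by
    exact (Algebra.TensorProduct.lift_tmul _ _ _ _ _).trans (by rw [map_one, one_mul])
  have hAC : ∀ z ∈ Smoothing.singularIdeal k A,
      (1 : R) ⊗ₜ[R₀] algebraMap B C₀ (algebraMap A B z) ∈ Smoothing.singularIdeal R C' := fun z hz =>
    tmul_mem_singularIdeal R (hBC z hz)
  have hle : Smoothing.singRad k φ ≤ Smoothing.singRad R φ' := by
    refine Ideal.radical_mono (Ideal.map_le_iff_le_comap.2 fun z hz => ?_)
    have h1 := Ideal.mem_map_of_mem φ' (hAC z hz)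
    rwa [hφ'C, hφC, φB.commutes] at h1
  suffices hres : Smoothing.Resolvable R φ' q by
    obtain ⟨D', _, _, hD, g, h, hgh, hle', hnle⟩ := hres
    letI : Algebra k D' := ((algebraMap R D').comp (algebraMap k R)).toAlgebra
    haveI : IsScalarTower k R D' := IsScalarTower.of_algebraMap_eq' rfl
    have hk : Smoothing.singRad R h ≤ Smoothing.singRad k (h.restrictScalars k) := by
      refine Ideal.radical_mono (Ideal.map_le_iff_le_comap.2 fun z hz => ?_)
      exact Ideal.mem_map_of_mem (h.restrictScalars k) (singularIdeal_le_of_smooth hz)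
    let gA : A →ₐ[k] D' :=
      { (g.toRingHom.comp ((Algebra.TensorProduct.includeRight : C₀ →ₐ[R₀] C').toRingHom.comp (algebraMap B C₀))).comp
          (algebraMap A B) with
        commutes' := fun z => by
          show g ((1 : R) ⊗ₜ[R₀] algebraMap B C₀ (algebraMap A B (algebraMap k A z))) = algebraMap R D' (algebraMap k R z)
          rw [← IsScalarTower.algebraMap_apply k A B, IsScalarTower.algebraMap_apply k R₀ B,
            ← IsScalarTower.algebraMap_apply R₀ B C₀, ← Algebra.TensorProduct.tmul_one_eq_one_tmul,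
            ← IsScalarTower.algebraMap_apply k R₀ R]
          exact g.commutes _ }
    refine ⟨D', inferInstance, inferInstance, Algebra.FinitePresentation.trans k R D', gA, h.restrictScalars k,
      AlgHom.ext fun z => ?_, hle.trans (hle'.trans hk), fun hc' => hnle (hk.trans hc')⟩
    show h (g ((1 : R) ⊗ₜ[R₀] algebraMap B C₀ (algebraMap A B z))) = φ z
    rw [← AlgHom.comp_apply h g, hgh, hφ'C, hφC, φB.commutes]
    rfl
  -- reduce modulo powers of the parameters
  let K : Ideal R := Ideal.span (Set.range fun i => (el i ^ M) ^ 8)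
  let π : Fin d → Λ := fun i => D.v (el i)
  have hlocL : ∀ i, f (π i) = D.vLoc (u i) * c.ev (c.g i) := fun i => by
    rw [show f (π i) = D.vLoc (algebraMap R _ (el i)) from (D.vLoc_algebraMap _).symm, hloc i i.2, map_mul]
    congr 1
    exact (D.compat _).trans (c.evP_algebraMap _)
  have hπspan : Ideal.span (Set.range fun i => f (π i)) = maximalIdeal Lq := by
    rw [← c.span_g]
    have h := span_unit_pow (fun i => Units.map D.vLoc.toMonoidHom (u i)) (fun i => c.ev (c.g i)) 1
    simp only [pow_one] at h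
    rw [← h]
    exact congrArg (fun F => Ideal.span (Set.range F)) (funext hlocL)
  have hπq : ∀ i, π i ∈ q := fun i => by
    rw [← IsLocalization.AtPrime.to_map_mem_maximal_iff Lq q]
    exact hπspan.le (Ideal.subset_span ⟨i, rfl⟩)
  have hKq : K.map (algebraMap R Λ) ≤ q := by
    rw [Ideal.map_le_iff_le_comap, Ideal.span_le]
    rintro _ ⟨i, rfl⟩
    show D.v ((el i ^ M) ^ 8) ∈ q
    rw [← pow_mul, map_pow]
    exact Ideal.pow_mem_of_mem _ (hπq i) _ (Nat.mul_pos hM (by norm_num))
  let φK : (C' ⧸ K.map (algebraMap R C')) →ₐ[R ⧸ K] (Λ ⧸ K.map (algebraMap R Λ)) :=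
    { Ideal.quotientMap (K.map (algebraMap R Λ)) φ'.toRingHom (Ideal.map_le_iff_le_comap.1 (le_of_eq (by
        rw [Ideal.map_map]; exact congrArg (fun g => Ideal.map g K) φ'.comp_algebraMap))) with
      commutes' := fun z => by
        obtain ⟨z, rfl⟩ := Ideal.Quotient.mk_surjective z
        exact congrArg (Ideal.Quotient.mk _) (φ'.commutes z) }
  have hφK : ∀ x, φK (Ideal.Quotient.mk _ x) = Ideal.Quotient.mk _ (φ' x) := fun x => rfl
  refine resolvable_of_resolvable_mod φ' q hd0 (fun i => el i ^ M) ?_ ?_ ?_ K rfl φK hφK ?_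
  · intro i
    have hfun : (fun j : {j : Fin d // (j : ℕ) < (i : ℕ)} => (el j.1 ^ M) ^ 8) =
        fun j => el j.1 ^ e := funext fun j => (pow_mul _ _ _).symm
    suffices H : ∀ S : Ideal R, S = Ideal.span (Set.range fun j : {j : Fin d // (j : ℕ) < (i : ℕ)} => el j.1 ^ e) →
        ∀ x : R ⧸ S, Ideal.Quotient.mk S (el i ^ M) ^ 2 * x = 0 → Ideal.Quotient.mk S (el i ^ M) * x = 0 from
      H _ (by rw [← hfun])
    rintro _ rfl x hx
    rw [map_pow] at hx ⊢
    refine annihilator_pow _ (fun y hy => ?_) M x hx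
    obtain ⟨y, rfl⟩ := Ideal.Quotient.mk_surjective y
    rw [← map_pow, ← map_mul, Ideal.Quotient.eq_zero_iff_mem] at hy
    rw [← map_mul, Ideal.Quotient.eq_zero_iff_mem]
    exact hsR i i.2 y hy
  · intro i
    have hfun : (fun j : {j : Fin d // (j : ℕ) < (i : ℕ)} => algebraMap R Λ (el j.1 ^ M) ^ 8) =
        fun j => π j.1 ^ e := funext fun j => by rw [map_pow, ← pow_mul]; rfl
    suffices H : ∀ S : Ideal Λ, S = Ideal.span (Set.range fun j : {j : Fin d // (j : ℕ) < (i : ℕ)} => π j.1 ^ e) →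
        ∀ x : Λ ⧸ S, Ideal.Quotient.mk S (algebraMap R Λ (el i ^ M)) ^ 2 * x = 0 →
          Ideal.Quotient.mk S (algebraMap R Λ (el i ^ M)) * x = 0 from H _ (by rw [← hfun])
    rintro _ rfl x hx
    rw [map_pow, map_pow] at hx ⊢
    refine annihilator_pow _ (fun y hy => ?_) M x hx
    obtain ⟨y, rfl⟩ := Ideal.Quotient.mk_surjective y
    rw [← map_pow, ← map_mul, Ideal.Quotient.eq_zero_iff_mem] at hy
    rw [← map_mul, Ideal.Quotient.eq_zero_iff_mem]
    exact hsL i i.2 y hy
  · intro i
    have h1 : algebraMap R C' (el i ^ M) = (1 : R) ⊗ₜ[R₀] algebraMap R₀ C₀ (MvPolynomial.X i ^ M) := by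
      rw [← Algebra.TensorProduct.tmul_one_eq_one_tmul, map_pow (algebraMap R₀ R), helX]
      rfl
    rw [h1]
    exact (isStandard_baseChange (R' := R) _).2 (hstd i)
  -- the reduced problem
  let J := K.map (algebraMap R Λ)
  let q' := q.map (Ideal.Quotient.mk J)
  haveI hq' : q'.IsPrime := Ideal.map_isPrime_of_surjective Ideal.Quotient.mk_surjective (by rwa [Ideal.mk_ker])
  have hcomap' : q'.comap (Ideal.Quotient.mk J) = q := by
    rw [Ideal.comap_map_of_surjective _ Ideal.Quotient.mk_surjective, ← RingHom.ker_eq_comap_bot, Ideal.mk_ker]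
    exact sup_eq_left.2 hKq
  haveI : Algebra.FinitePresentation R C' := inferInstance
  haveI : Algebra.FinitePresentation (R ⧸ K) (C' ⧸ K.map (algebraMap R C')) := by
    haveI : Algebra.FiniteType R (C' ⧸ K.map (algebraMap R C')) := inferInstance
    haveI : Algebra.FiniteType (R ⧸ K) (C' ⧸ K.map (algebraMap R C')) :=
      Algebra.FiniteType.of_restrictScalars_finiteType R (R ⧸ K) _
    exact Algebra.FinitePresentation.of_finiteType.1 inferInstance
  have hA' : ∀ z ∈ Smoothing.singularIdeal k A, Ideal.Quotient.mk J (φ z) ∈ Smoothing.singRad (R ⧸ K) φK := by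
    intro z hz
    have h1 := singularIdeal_map_le (R := R) (R₁ := R ⧸ K) (A := C') (A₁ := C' ⧸ K.map (algebraMap R C'))
      Ideal.Quotient.mk_surjective (Ideal.Quotient.mkₐ R _) Ideal.Quotient.mk_surjective
      (le_of_eq (by rw [Ideal.Quotient.algebraMap_eq, Ideal.mk_ker]; exact Ideal.mk_ker)) (hAC z hz)
    have h2 := Ideal.le_radical (Ideal.mem_map_of_mem φK h1)
    rw [Ideal.Quotient.mkₐ_eq_mk, hφK, hφ'C, hφC, φB.commutes] at h2
    exact h2
  by_cases hsing : Smoothing.singRad (R ⧸ K) φK ≤ q'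
  swap
  · exact ⟨_, inferInstance, inferInstance, inferInstance, AlgHom.id _ _, φK, AlgHom.comp_id _, le_rfl, hsing⟩
  have hπgen : ∀ (P : Ideal Λ), P.IsPrime → J ≤ P → ∀ i, π i ∈ P := by
    intro P hP hJP i
    refine hP.mem_of_pow_mem e (hJP ?_)
    show D.v (el i) ^ e ∈ J
    rw [← map_pow, show e = M * 8 from rfl, pow_mul]
    exact Ideal.mem_map_of_mem _ (Ideal.subset_span ⟨i, rfl⟩)
  have hmin' : q' ∈ (Smoothing.singRad (R ⧸ K) φK).minimalPrimes := by
    refine ⟨⟨hq', hsing⟩, fun P hP hPq => ?_⟩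
    haveI := hP.1
    have h1 : q ≤ P.comap (Ideal.Quotient.mk J) := by
      refine hmin.2 ⟨inferInstance, (Ideal.IsPrime.radical_le_iff inferInstance).2 (Ideal.map_le_iff_le_comap.2
        fun z hz => hP.2 (hA' z hz))⟩ ?_
      exact (Ideal.comap_mono hPq).trans hcomap'.le
    exact Ideal.map_le_iff_le_comap.2 h1
  -- the local ring
  let L' := Lq ⧸ J.map f
  haveI hlocL' : IsLocalization.AtPrime L' q' := by
    have h : q'.primeCompl = Algebra.algebraMapSubmonoid (Λ ⧸ J) q.primeCompl := by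
      ext x
      obtain ⟨z, rfl⟩ := Ideal.Quotient.mk_surjective x
      refine ⟨fun hz => ⟨z, fun hzq => hz (Ideal.mem_map_of_mem _ hzq), rfl⟩, fun ⟨w, hw, hwz⟩ hz => hw ?_⟩
      rw [SetLike.mem_coe, ← hcomap', Ideal.mem_comap]
      change Ideal.Quotient.mk J w = Ideal.Quotient.mk J z at hwz
      rw [hwz]
      exact hz
    show IsLocalization q'.primeCompl L'
    rw [h]
    infer_instance
  haveI : IsLocalRing L' := IsLocalization.AtPrime.isLocalRing L' q'
  let p' : Ideal (R ⧸ K) := q'.comap (algebraMap (R ⧸ K) (Λ ⧸ J))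
  haveI : Ideal.IsPrime p' := Ideal.IsPrime.comap _
  let Rp := Localization.AtPrime p'
  let φp : Rp →+* L' := IsLocalization.lift (M := p'.primeCompl)
    (g := (algebraMap (Λ ⧸ J) L').comp (algebraMap (R ⧸ K) (Λ ⧸ J)))
    fun y => IsLocalization.map_units L' (⟨algebraMap (R ⧸ K) (Λ ⧸ J) y, y.2⟩ : q'.primeCompl)
  letI : Algebra Rp L' := φp.toAlgebra
  letI : Algebra (R ⧸ K) L' := ((algebraMap (Λ ⧸ J) L').comp (algebraMap (R ⧸ K) (Λ ⧸ J))).toAlgebra
  haveI : IsScalarTower (R ⧸ K) (Λ ⧸ J) L' := IsScalarTower.of_algebraMap_eq' rfl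
  haveI : IsScalarTower (R ⧸ K) Rp L' := IsScalarTower.of_algebraMap_eq fun y => (IsLocalization.lift_eq _ y).symm
  refine Groth.Agent.S2034.result φK q' hmin' (Rₚ := Rp) (Λq := L') ?_ ?_
  · rw [IsLocalization.AtPrime.ringKrullDim_eq_height q' L']
    have hmin0 : q' ∈ minimalPrimes (Λ ⧸ J) := by
      refine ⟨⟨hq', bot_le⟩, fun P hP hPq => ?_⟩
      haveI := hP.1
      have hJP : J ≤ P.comap (Ideal.Quotient.mk J) := fun z hz => by
        rw [Ideal.mem_comap, Ideal.Quotient.eq_zero_iff_mem.2 hz]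
        exact zero_mem _
      have hPq' : P.comap (Ideal.Quotient.mk J) ≤ q := hcomap' ▸ Ideal.comap_mono hPq
      have h1 : q ≤ P.comap (Ideal.Quotient.mk J) := by
        intro z hz
        have h2 : f z ∈ (P.comap (Ideal.Quotient.mk J)).map f := by
          refine (Ideal.span_le.2 ?_ : Ideal.span (Set.range fun i => f (π i)) ≤ _)
            (hπspan.ge (hqL.le (Ideal.mem_map_of_mem f hz)))
          rintro _ ⟨i, rfl⟩
          exact Ideal.mem_map_of_mem _ (hπgen _ inferInstance hJP i)
        obtain ⟨t, ht, htz⟩ := (IsLocalization.algebraMap_mem_map_algebraMap_iff q.primeCompl Lq _ z).1 h2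
        exact ((Ideal.IsPrime.mem_or_mem inferInstance htz).resolve_left fun h => ht (hPq' h))
      exact Ideal.map_le_iff_le_comap.2 h1
    rw [Ideal.height_eq_zero_iff.2 hmin0]
    rfl
  -- the residual factorization
  let κ : Localization.AtPrime D.P →+* Rp := Localization.localRingHom D.P p' (Ideal.Quotient.mk K) (by
    ext x
    show D.v x ∈ q ↔ Ideal.Quotient.mk J (D.v x) ∈ q'
    exact (SetLike.ext_iff.1 hcomap' (D.v x)).symm)
  have hκ : ∀ x, κ (algebraMap R _ x) = algebraMap (R ⧸ K) Rp (Ideal.Quotient.mk K x) := fun x =>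
    Localization.localRingHom_to_map _ _ _ _ x
  let mkL : Lq →+* L' := Ideal.Quotient.mk _
  have hκv : ∀ z, φp (κ z) = mkL (D.vLoc z) := fun z => RingHom.congr_fun
    (IsLocalization.ringHom_ext D.P.primeCompl (j := φp.comp κ) (k := mkL.comp D.vLoc) (RingHom.ext fun y => by
      show φp (κ (algebraMap R _ y)) = mkL (D.vLoc (algebraMap R _ y))
      rw [hκ, IsLocalization.lift_eq, D.vLoc_algebraMap]
      rfl)) z
  let θ : S' →+* Rp := κ.comp D.ρ.toRingHom
  have hel0 : ∀ i, κ (algebraMap R _ (el i)) ^ e = 0 := fun i => by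
    rw [hκ, ← map_pow, ← map_pow, show e = M * 8 from rfl, pow_mul,
      Ideal.Quotient.eq_zero_iff_mem.2 (show (el i ^ M) ^ 8 ∈ K from Ideal.subset_span ⟨i, rfl⟩), map_zero]
  have hθ : maximalIdeal S' ^ N ≤ RingHom.ker θ := by
    rw [← hgen]
    refine (pow_span_le _ e N (by omega)).trans (Ideal.span_le.2 ?_)
    rintro _ ⟨i, rfl⟩
    show κ (D.ρ (algebraMap _ S' (c.g i) ^ e)) = 0
    rw [map_pow, map_pow]
    have hgi : D.ρ (algebraMap _ S' (c.g i)) = ↑(u i)⁻¹ * algebraMap R _ (el i) := by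
      rw [hloc i i.2, ← mul_assoc, Units.inv_mul, one_mul]
    rw [hgi, map_mul, mul_pow, hel0, mul_zero]
  let SN := S' ⧸ maximalIdeal S' ^ N
  letI : Algebra SN Rp := (Ideal.Quotient.lift _ θ hθ).toAlgebra
  letI : Algebra SN L' := (φp.comp (algebraMap SN Rp)).toAlgebra
  haveI : IsScalarTower SN Rp L' := IsScalarTower.of_algebraMap_eq' rfl
  haveI : Algebra.Smooth SN T := inferInstance
  let Bres := Rp ⊗[SN] T
  haveI : Algebra.Smooth Rp Bres := Algebra.Smooth.baseChange (R := SN) (A := T) (B := Rp)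
  have hNJ : maximalIdeal Lq ^ (d * e + 2) ≤ J.map f := by
    rw [← hπspan]
    refine (pow_span_le _ e _ (by omega)).trans (Ideal.span_le.2 ?_)
    rintro _ ⟨i, rfl⟩
    show f (π i) ^ e ∈ J.map f
    rw [← map_pow]
    refine Ideal.mem_map_of_mem f ?_
    show D.v (el i) ^ e ∈ J
    rw [← map_pow, show e = M * 8 from rfl, pow_mul]
    exact Ideal.mem_map_of_mem _ (Ideal.subset_span ⟨i, rfl⟩)
  have hNJ' : maximalIdeal Lq ^ N ≤ J.map f := (Ideal.pow_le_pow_right (by omega)).trans hNJ
  let pr : LN →+* L' := Ideal.Quotient.factor hNJ'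
  let ιs : T →ₐ[SN] L' :=
    { pr.comp ι with
      commutes' := fun z => by
        obtain ⟨x, rfl⟩ := Ideal.Quotient.mk_surjective z
        show pr (ι (algebraMap SN T (Ideal.Quotient.mk _ x))) = φp (κ (D.ρ x))
        rw [← Ideal.Quotient.algebraMap_eq, ← IsScalarTower.algebraMap_apply S' SN T, hι, hκv]
        exact congrArg mkL (D.compat x).symm }
  let h : Bres →ₐ[Rp] L' := Algebra.TensorProduct.lift (Algebra.ofId Rp L') ιs fun _ _ => Commute.all _ _
  have hh : ∀ (x : Rp) (t : T), h (x ⊗ₜ[SN] t) = φp x * pr (ι t) := fun x t =>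
    Algebra.TensorProduct.lift_tmul _ _ _ x t
  -- the map from the universal algebra
  let gA : A →+* Bres := (Algebra.TensorProduct.includeRight : T →ₐ[SN] Bres).toRingHom.comp ψA.toRingHom
  letI : Algebra A Bres := gA.toAlgebra
  let xb : Fin d → Bres := fun i => κ (algebraMap R _ (el i)) ⊗ₜ[SN] (1 : T)
  let yb : Fin d → Fin r → Bres := fun i l => (κ (u i) ^ n) ⊗ₜ[SN] cbar i l
  obtain ⟨gB, hgx, hgy⟩ := exists_powAlg_hom a n xb yb fun i => by
    have e1 : xb i ^ n = (κ (u i) ^ n) ⊗ₜ[SN] (gT i ^ n) := by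
      have e2 : (θ (algebraMap _ S' (c.g i) ^ n) : Rp) ⊗ₜ[SN] (1 : T) = (1 : Rp) ⊗ₜ[SN] (gT i ^ n) := by
        have := Algebra.TensorProduct.tmul_one_eq_one_tmul (R := SN) (A := Rp) (B := T)
          (Ideal.Quotient.mk _ (algebraMap _ S' (c.g i) ^ n))
        rw [show algebraMap SN Rp (Ideal.Quotient.mk _ (algebraMap _ S' (c.g i) ^ n)) =
            θ (algebraMap _ S' (c.g i) ^ n) from Ideal.Quotient.lift_mk _ _ _] at this
        rw [← Ideal.Quotient.algebraMap_eq, ← IsScalarTower.algebraMap_apply S' SN T, map_pow (algebraMap S' T)] at this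
        exact this
      calc xb i ^ n = (κ (u i) ^ n * θ (algebraMap _ S' (c.g i) ^ n)) ⊗ₜ[SN] (1 : T) := by
            rw [Algebra.TensorProduct.tmul_pow, one_pow, hloc i i.2, map_mul, mul_pow, map_pow θ]
            rfl
        _ = ((κ (u i) ^ n) ⊗ₜ[SN] (1 : T)) * ((θ (algebraMap _ S' (c.g i) ^ n)) ⊗ₜ[SN] (1 : T)) := by
            rw [Algebra.TensorProduct.tmul_mul_tmul, mul_one]
        _ = _ := by rw [e2]; exact (Algebra.TensorProduct.tmul_mul_tmul (κ (u i) ^ n) 1 1 (gT i ^ n)).trans (by rw [mul_one, one_mul])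
    rw [e1, ← hcbar i, TensorProduct.tmul_sum]
    refine Finset.sum_congr rfl fun l _ => ?_
    show _ = ((1 : Rp) ⊗ₜ[SN] ψA (a l)) * yb i l
    rw [Algebra.TensorProduct.tmul_mul_tmul, one_mul, smul_eq_mul, mul_comm]
  letI : Algebra A L' := ((mkL.comp f).comp φ.toRingHom).toAlgebra
  have hhgB : ∀ b, h (gB b) = mkL (f (φB b)) := by
    let h1 : B →ₐ[A] L' :=
      { h.toRingHom.comp gB.toRingHom with
        commutes' := fun z => by
          show h (gB (algebraMap A B z)) = mkL (f (φ z))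
          rw [gB.commutes]
          show h ((1 : Rp) ⊗ₜ[SN] ψA z) = _
          rw [hh, map_one, one_mul, hψA]
          rfl }
    let h2 : B →ₐ[A] L' :=
      { (mkL.comp f).comp φB.toRingHom with
        commutes' := fun z => by
          show mkL (f (φB (algebraMap A B z))) = _
          rw [φB.commutes]
          rfl }
    refine fun b => DFunLike.congr_fun (powAlg_algHom_ext a n h1 h2 (fun i => ?_) fun i l => ?_) b
    · show h (gB (powX a n i)) = mkL (f (φB (powX a n i)))
      rw [hgx, hφx, hh, map_one, map_one, mul_one, hκv, D.vLoc_algebraMap]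
    · show h (gB (powY a n i l)) = mkL (f (φB (powY a n i l)))
      rw [hgy, hφy, hh, map_pow, hκv, hcc i i.2 l, ← hγ]
      show mkL (D.vLoc (u i)) ^ n * mkL (γ i l) = _
      rw [← map_pow, ← map_mul]
      refine Ideal.Quotient.eq.2 ?_
      rw [show D.vLoc (u i) ^ n * γ i l - D.vLoc (u i) ^ n * (γ i l + η i l) = -(D.vLoc (u i) ^ n * η i l) by ring]
      exact neg_mem (Ideal.mul_mem_left _ _ (hNJ (hη i l)))
  -- over the base
  let gBR : B →ₐ[R₀] Bres :=
    { gB.toRingHom with
      commutes' := fun z => RingHom.congr_fun (MvPolynomial.ringHom_ext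
        (f := gB.toRingHom.comp (algebraMap R₀ B)) (g := algebraMap R₀ Bres) (fun x => by
          show gB (algebraMap R₀ B (algebraMap k R₀ x)) = algebraMap R Bres (algebraMap R₀ R (algebraMap k R₀ x))
          rw [← IsScalarTower.algebraMap_apply k R₀ B, IsScalarTower.algebraMap_apply k A B, gB.commutes,
            ← IsScalarTower.algebraMap_apply k R₀ R]
          show (1 : Rp) ⊗ₜ[SN] ψA (algebraMap k A x) =
            algebraMap (R ⧸ K) Rp (Ideal.Quotient.mk K (algebraMap k R x)) ⊗ₜ[SN] (1 : T)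
          rw [AlgHom.commutes]
          show (1 : Rp) ⊗ₜ[SN] algebraMap S' T (algebraMap k S' x) = _
          rw [IsScalarTower.algebraMap_apply S' SN T, ← Algebra.TensorProduct.tmul_one_eq_one_tmul]
          show θ (algebraMap k S' x) ⊗ₜ[SN] (1 : T) = _
          show κ (D.ρ (algebraMap k S' x)) ⊗ₜ[SN] (1 : T) = _
          rw [D.ρ.commutes, IsScalarTower.algebraMap_apply k R (Localization.AtPrime D.P), hκ]) (fun i => by
          show gB (algebraMap R₀ B (MvPolynomial.X i)) = algebraMap R Bres (algebraMap R₀ R (MvPolynomial.X i))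
          rw [hξ, helX, hgx]
          show κ (algebraMap R _ (el i)) ⊗ₜ[SN] (1 : T) = _
          rw [hκ]
          rfl)) z }
  let G : C' →ₐ[R] Bres := Algebra.TensorProduct.lift (Algebra.ofId R Bres)
    (gBR.comp (retr.restrictScalars R₀)) fun _ _ => Commute.all _ _
  have hGK : ∀ z ∈ K.map (algebraMap R C'), G z = 0 := by
    intro z hz
    refine (Ideal.map_le_iff_le_comap.2 fun w hw => ?_ : K.map (algebraMap R C') ≤ RingHom.ker G.toRingHom) hz
    show G (algebraMap R C' w) = 0
    rw [G.commutes]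
    show algebraMap Rp Bres (algebraMap (R ⧸ K) Rp (Ideal.Quotient.mk K w)) = 0
    rw [Ideal.Quotient.eq_zero_iff_mem.2 hw, map_zero, map_zero]
  let GK : (C' ⧸ K.map (algebraMap R C')) →ₐ[R ⧸ K] Bres :=
    { Ideal.Quotient.lift _ G.toRingHom hGK with
      commutes' := fun z => by
        obtain ⟨z, rfl⟩ := Ideal.Quotient.mk_surjective z
        exact G.commutes z }
  refine resolvable_of_factor (B := Bres) _ _ ?_
    (Algebra.TensorProduct.lift (Algebra.ofId Rp Bres) GK fun _ _ => Commute.all _ _) h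
    (Algebra.TensorProduct.ext (Subsingleton.elim _ _) (AlgHom.ext fun z => ?_))
  · rw [IsLocalization.AtPrime.map_eq_maximalIdeal q' L']
    exact (maximalIdeal.isMaximal _).ne_top
  obtain ⟨z, rfl⟩ := Ideal.Quotient.mk_surjective z
  show h (Algebra.ofId Rp Bres 1 * G z) = φp 1 * algebraMap (Λ ⧸ J) L' (φK (Ideal.Quotient.mk _ z))
  rw [map_one, one_mul, map_one φp, one_mul, hφK]
  show h (G z) = mkL (f (φ' z))
  induction z using TensorProduct.induction_on with
  | zero => simp only [map_zero]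
  | add x y hx hy => simp only [map_add, hx, hy]
  | tmul x y =>
    rw [show G (x ⊗ₜ[R₀] y) = algebraMap R Bres x * gBR (retr y) from Algebra.TensorProduct.lift_tmul _ _ _ x y,
      show φ' (x ⊗ₜ[R₀] y) = D.v x * φB (retr y) from Algebra.TensorProduct.lift_tmul _ _ _ x y,
      map_mul h, map_mul f, map_mul mkL]
    refine congrArg₂ (· * ·) ?_ (hhgB (retr y))
    show h (algebraMap Rp Bres (algebraMap (R ⧸ K) Rp (Ideal.Quotient.mk K x))) = mkL (f (D.v x))
    rw [h.commutes]
    show φp _ = _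
    rw [IsLocalization.lift_eq]
    rfl

end Groth.Agent.InsepH7
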