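import Groth.Agent.Lib.InsepH7.LocalData
import Groth.Agent.Lib.RegPowH7.Basic
import Mathlib.RingTheory.Polynomial.Basic
import Mathlib.RingTheory.Regular.Flat
import Mathlib.RingTheory.Smooth.Basic

/-!
Global parameters: a polynomial extension of a base whose localization contains the coordinates.
-/

set_option autoImplicit false
set_option linter.style.haveILetI false

universe u

open IsLocalRing

namespace Groth.Agent.InsepH7

/-- The kernel of the localization of a quotient is killed by one element outside the prime. -/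
theorem exists_killer {R : Type u} [CommRing R] [IsNoetherianRing R] (P : Ideal R) [P.IsPrime] (J : Ideal R) :
    ∃ H ∉ P, ∀ y, algebraMap R (Localization.AtPrime P) y ∈ J.map (algebraMap R (Localization.AtPrime P)) →
      H * y ∈ J := by
  classical
  let K' := (J.map (algebraMap R (Localization.AtPrime P))).comap (algebraMap R (Localization.AtPrime P))
  obtain ⟨G, hG⟩ := IsNoetherian.noetherian K'
  have hx : ∀ y ∈ G, ∃ s, s ∉ P ∧ s * y ∈ J := fun y hy => by
    obtain ⟨s, hs, h⟩ := (IsLocalization.algebraMap_mem_map_algebraMap_iff P.primeCompl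
      (Localization.AtPrime P) J y).1 (hG ▸ Ideal.subset_span hy : y ∈ K')
    exact ⟨s, hs, h⟩
  choose! s hs hsy using hx
  refine ⟨∏ y ∈ G, s y, fun h => ?_, fun y hy => ?_⟩
  · obtain ⟨y, hy, h'⟩ := (Ideal.IsPrime.prod_mem_iff (p := P)).1 h
    exact hs y hy h'
  · have hy' : y ∈ Submodule.span R (G : Set R) := hG ▸ hy
    clear hy
    induction hy' using Submodule.span_induction with
    | mem z hz =>
      obtain ⟨c, hc⟩ := Finset.dvd_prod_of_mem s hz
      rw [hc, mul_right_comm]
      exact J.mul_mem_right _ (hsy z hz)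
    | zero => simp
    | add z w _ _ hz hw => rw [mul_add]; exact add_mem hz hw
    | smul c z _ hz => rw [smul_eq_mul, mul_left_comm]; exact J.mul_mem_left _ hz

variable {k Λ : Type u} [Field k] [CommRing Λ] [Algebra k Λ] {q : Ideal Λ} [q.IsPrime]

/-- A base algebra whose localization at the prime under `q` receives the coordinates. -/
structure Base {d : ℕ} (c : Coord k (Localization.AtPrime q) d) where
  /-- the algebra -/
  R : Type u
  [commRing : CommRing R]
  [algebra : Algebra k R]
  [fs : Algebra.FormallySmooth k R]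
  [fp : Algebra.FinitePresentation k R]
  /-- the map to the target -/
  v : R →ₐ[k] Λ
  /-- the coordinates in the localization -/
  ρ : Localization.AtPrime c.P →ₐ[k] Localization.AtPrime (q.comap v.toRingHom)
  flat : ρ.toRingHom.Flat
  compat : ∀ x, Localization.localRingHom (q.comap v.toRingHom) q v.toRingHom rfl (ρ x) = c.evP x

attribute [instance] Base.commRing Base.algebra Base.fs Base.fp

variable {d : ℕ} {c : Coord k (Localization.AtPrime q) d}

/-- The prime of the base. -/
abbrev Base.P (D : Base c) : Ideal D.R := q.comap D.v.toRingHom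

/-- The localized map. -/
noncomputable abbrev Base.vLoc (D : Base c) : Localization.AtPrime D.P →+* Localization.AtPrime q :=
  Localization.localRingHom D.P q D.v.toRingHom rfl

theorem Base.vLoc_algebraMap (D : Base c) (x : D.R) :
    D.vLoc (algebraMap _ _ x) = algebraMap Λ (Localization.AtPrime q) (D.v x) :=
  Localization.localRingHom_to_map _ _ _ _ x

theorem Base.isNoetherian (D : Base c) : IsNoetherianRing D.R := Algebra.FiniteType.isNoetherianRing k D.R

/-- Adjoin a variable with a given value. -/
noncomputable def Base.vExtend (D : Base c) (w : Λ) : Polynomial D.R →ₐ[k] Λ :=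
  { Polynomial.eval₂RingHom D.v.toRingHom w with
    commutes' := fun x => by
      show Polynomial.eval₂ D.v.toRingHom w (algebraMap k (Polynomial D.R) x) = _
      rw [IsScalarTower.algebraMap_apply k D.R (Polynomial D.R), Polynomial.algebraMap_eq, Polynomial.eval₂_C]
      exact D.v.commutes x }

theorem Base.vExtend_C (D : Base c) (w : Λ) (x : D.R) : D.vExtend w (Polynomial.C x) = D.v x :=
  Polynomial.eval₂_C _ _

theorem Base.vExtend_X (D : Base c) (w : Λ) : D.vExtend w Polynomial.X = w :=
  Polynomial.eval₂_X _ _

/-- The transition of localizations. -/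
noncomputable def Base.locExtend (D : Base c) (w : Λ) :
    Localization.AtPrime D.P →+* Localization.AtPrime (q.comap (D.vExtend w).toRingHom) :=
  Localization.localRingHom D.P (q.comap (D.vExtend w).toRingHom) Polynomial.C (by
    ext x
    show D.v x ∈ q ↔ D.vExtend w (Polynomial.C x) ∈ q
    rw [D.vExtend_C])

theorem Base.locExtend_algebraMap (D : Base c) (w : Λ) (x : D.R) :
    D.locExtend w (algebraMap _ _ x) = algebraMap _ _ (Polynomial.C x) :=
  Localization.localRingHom_to_map _ _ _ _ x

theorem Base.locExtend_flat (D : Base c) (w : Λ) : (D.locExtend w).Flat := by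
  let S' := Localization.AtPrime (q.comap (D.vExtend w).toRingHom)
  letI : Algebra (Localization.AtPrime D.P) S' := (D.locExtend w).toAlgebra
  haveI : IsScalarTower D.R (Localization.AtPrime D.P) S' := IsScalarTower.of_algebraMap_eq fun x => by
    rw [IsScalarTower.algebraMap_apply D.R (Polynomial D.R) S', Polynomial.algebraMap_eq]
    exact (D.locExtend_algebraMap w x).symm
  haveI : Module.Flat (Polynomial D.R) S' := IsLocalization.flat S' (q.comap (D.vExtend w).toRingHom).primeCompl
  haveI : Module.Flat D.R S' := Module.Flat.trans D.R (Polynomial D.R) S'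
  exact (Module.flat_iff_of_isLocalization (Localization.AtPrime D.P) D.P.primeCompl S').2 inferInstance

/-- The extended base. -/
noncomputable def Base.extend (D : Base c) (w : Λ) : Base c where
  R := Polynomial D.R
  fs := Algebra.FormallySmooth.comp k D.R (Polynomial D.R)
  fp := Algebra.FinitePresentation.trans k D.R (Polynomial D.R)
  v := D.vExtend w
  ρ :=
    { (D.locExtend w).comp D.ρ.toRingHom with
      commutes' := fun x => by
        show D.locExtend w (D.ρ (algebraMap k _ x)) = _
        rw [D.ρ.commutes, IsScalarTower.algebraMap_apply k D.R (Localization.AtPrime D.P),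
          D.locExtend_algebraMap, ← Polynomial.algebraMap_eq, ← IsScalarTower.algebraMap_apply k D.R (Polynomial D.R),
          ← IsScalarTower.algebraMap_apply] }
  flat := RingHom.Flat.comp D.flat (D.locExtend_flat w)
  compat := fun x => by
    rw [← D.compat x]
    refine RingHom.congr_fun (IsLocalization.ringHom_ext D.P.primeCompl
      (j := (Localization.localRingHom _ q (D.vExtend w).toRingHom rfl).comp (D.locExtend w)) (k := D.vLoc)
      (RingHom.ext fun y => ?_)) (D.ρ x)
    show Localization.localRingHom _ q _ rfl (D.locExtend w (algebraMap _ _ y)) = D.vLoc (algebraMap _ _ y)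
    rw [D.locExtend_algebraMap, Localization.localRingHom_to_map, D.vLoc_algebraMap]
    exact congrArg _ (D.vExtend_C w y)

/-- Regular parameters stay regular in the localized base. -/
theorem Base.mul_mem_imp (D : Base c)
    (hgen : Ideal.span (Set.range fun i => algebraMap _ (Localization.AtPrime c.P) (c.g i)) =
      maximalIdeal (Localization.AtPrime c.P))
    (hdim : ringKrullDim (Localization.AtPrime c.P) = d) {e : ℕ} (he : 0 < e) (i : Fin d)
    (y : Localization.AtPrime D.P)
    (hy : D.ρ (algebraMap _ _ (c.g i)) * y ∈ Ideal.span (Set.range fun j : {j : Fin d // (j : ℕ) < (i : ℕ)} =>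
      D.ρ (algebraMap _ _ (c.g j)) ^ e)) :
    y ∈ Ideal.span (Set.range fun j : {j : Fin d // (j : ℕ) < (i : ℕ)} => D.ρ (algebraMap _ _ (c.g j)) ^ e) := by
  haveI := D.isNoetherian
  let S' := Localization.AtPrime c.P
  let RP := Localization.AtPrime D.P
  haveI : IsNoetherianRing S' := IsLocalization.isNoetherianRing c.P.primeCompl S' inferInstance
  haveI : IsRegularLocalRing S' := inferInstance
  haveI : IsNoetherianRing RP := IsLocalization.isNoetherianRing D.P.primeCompl RP inferInstance
  let x : Fin d → RP := fun j => D.ρ (algebraMap _ S' (c.g j))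
  have hm : ∀ j, x j ∈ maximalIdeal RP := fun j => by
    intro hu
    have h1 := hu.map D.vLoc
    rw [show D.vLoc (x j) = c.evP (algebraMap _ S' (c.g j)) from D.compat _, c.evP_algebraMap] at h1
    exact (maximalIdeal.isMaximal (Localization.AtPrime q)).ne_top
      (Ideal.eq_top_of_isUnit_mem _ (c.span_g.le (Ideal.subset_span ⟨j, rfl⟩)) h1)
  have hreg : RingTheory.Sequence.IsWeaklyRegular RP (List.ofFn x) := by
    have h0 := (Groth.Agent.RegLoc.isRegular_of_span_range d S' _ hgen
      (Groth.Agent.RegLoc.spanFinrank_eq_of_dim hdim)).1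
    letI : Algebra S' RP := D.ρ.toRingHom.toAlgebra
    haveI : Module.Flat S' RP := D.flat
    have h1 := h0.of_flat (S := RP)
    rwa [List.map_ofFn] at h1
  exact Groth.Agent.RegPowH7.mul_mem_imp he x hreg hm i y hy

/-- A map out of a localization is flat if its restriction is. -/
theorem flat_of_comp {A A' B : Type u} [CommRing A] [CommRing A'] [CommRing B] [Algebra A A'] (M : Submonoid A)
    [IsLocalization M A'] (g : A' →+* B) (h : (g.comp (algebraMap A A')).Flat) : g.Flat := by
  letI : Algebra A B := (g.comp (algebraMap A A')).toAlgebra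
  letI : Algebra A' B := g.toAlgebra
  haveI : IsScalarTower A A' B := IsScalarTower.of_algebraMap_eq fun _ => rfl
  haveI : Module.Flat A B := h
  exact (Module.flat_iff_of_isLocalization A' M B).2 inferInstance

/-- Coordinates in a local ring come from a polynomial ring over the field with one more variable, the
common denominator. -/
theorem exists_initial (c : Coord k (Localization.AtPrime q) d) : Nonempty (Base c) := by
  classical
  obtain ⟨⟨s, hs⟩, hb⟩ := IsLocalization.exist_integer_multiples_of_finite q.primeCompl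
    (fun v => c.ev (MvPolynomial.X v))
  choose b hb using hb
  let R := Polynomial (MvPolynomial c.σ k)
  let v : R →ₐ[k] Λ :=
    { Polynomial.eval₂RingHom (MvPolynomial.aeval b).toRingHom s with
      commutes' := fun x => by
        show Polynomial.eval₂ (MvPolynomial.aeval b).toRingHom s (algebraMap k R x) = _
        rw [IsScalarTower.algebraMap_apply k (MvPolynomial c.σ k) R, Polynomial.algebraMap_eq,
          Polynomial.eval₂_C]
        exact (MvPolynomial.aeval b).commutes x }
  have hvC : ∀ x, v (Polynomial.C x) = MvPolynomial.aeval b x := fun x => Polynomial.eval₂_C _ _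
  have hvX : v Polynomial.X = s := Polynomial.eval₂_X _ _
  let P : Ideal R := q.comap v.toRingHom
  let RP := Localization.AtPrime P
  have hSP : (Polynomial.X : R) ∈ P.primeCompl := fun h => hs (hvX ▸ h)
  obtain ⟨Su, hSu⟩ := IsLocalization.map_units RP (⟨Polynomial.X, hSP⟩ : P.primeCompl)
  let vL : RP →+* Localization.AtPrime q := Localization.localRingHom P q v.toRingHom rfl
  have hvL : ∀ x, vL (algebraMap R RP x) = algebraMap Λ _ (v x) := fun x =>
    Localization.localRingHom_to_map _ _ _ _ x
  let ρ₀ : MvPolynomial c.σ k →ₐ[k] RP :=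
    MvPolynomial.aeval fun i => algebraMap R RP (Polynomial.C (MvPolynomial.X i)) * ↑Su⁻¹
  have hρ₀ : ∀ x, vL (ρ₀ x) = c.ev x := by
    intro x
    refine RingHom.congr_fun (MvPolynomial.ringHom_ext (f := vL.comp ρ₀.toRingHom) (g := c.ev.toRingHom)
      (fun a => ?_) (fun i => ?_)) x
    · show vL (ρ₀ (algebraMap k _ a)) = c.ev (algebraMap k _ a)
      rw [ρ₀.commutes, IsScalarTower.algebraMap_apply k R RP, hvL, v.commutes, c.ev.commutes,
        ← IsScalarTower.algebraMap_apply]
    · show vL (ρ₀ (MvPolynomial.X i)) = c.ev (MvPolynomial.X i)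
      have hu : IsUnit (algebraMap Λ (Localization.AtPrime q) s) :=
        IsLocalization.map_units _ (⟨s, hs⟩ : q.primeCompl)
      apply hu.mul_left_cancel
      rw [MvPolynomial.aeval_X, map_mul, hvL, hvC, MvPolynomial.aeval_X, hb i]
      have h1 : algebraMap Λ (Localization.AtPrime q) s = vL Su := by rw [hSu, hvL, hvX]
      rw [Algebra.smul_def, h1, mul_left_comm, ← map_mul, Units.mul_inv, map_one, mul_one]
  have hρu : ∀ y : c.P.primeCompl, IsUnit (ρ₀ y) := fun y => by
    by_contra h
    refine y.2 ?_
    show c.ev y ∈ maximalIdeal _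
    rw [← hρ₀]
    haveI : IsLocalHom vL := Localization.isLocalHom_localRingHom _ _ _ _
    exact fun hu => h (isUnit_of_map_unit vL _ hu)
  -- the substitution and its inverse
  let φ : R →+* RP := Polynomial.eval₂RingHom ρ₀.toRingHom (Su : RP)
  have hφC : ∀ x, φ (Polynomial.C x) = ρ₀ x := fun x => Polynomial.eval₂_C _ _
  have hφX : φ Polynomial.X = Su := Polynomial.eval₂_X _ _
  let ψ : R →+* R := Polynomial.eval₂RingHom
    (MvPolynomial.aeval (R := k) fun i => Polynomial.C (MvPolynomial.X i) * Polynomial.X).toRingHom Polynomial.X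
  have hψC : ∀ x, ψ (Polynomial.C x) =
      MvPolynomial.aeval (R := k) (fun i => (Polynomial.C (MvPolynomial.X i) * Polynomial.X : R)) x := fun x =>
    Polynomial.eval₂_C _ _
  have hψX : ψ Polynomial.X = Polynomial.X := Polynomial.eval₂_X _ _
  have hφψ : ∀ x, φ (ψ x) = algebraMap R RP x := by
    intro x
    refine RingHom.congr_fun (Polynomial.ringHom_ext' (f := φ.comp ψ) (g := algebraMap R RP)
      (MvPolynomial.ringHom_ext (fun a => ?_) (fun i => ?_)) ?_) x
    · show φ (ψ (Polynomial.C (MvPolynomial.C a))) = algebraMap R RP (Polynomial.C (MvPolynomial.C a))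
      rw [hψC, MvPolynomial.aeval_C, IsScalarTower.algebraMap_apply k (MvPolynomial c.σ k) R,
        Polynomial.algebraMap_eq, hφC, MvPolynomial.algebraMap_eq, ← MvPolynomial.algebraMap_eq, ρ₀.commutes,
        IsScalarTower.algebraMap_apply k R RP, IsScalarTower.algebraMap_apply k (MvPolynomial c.σ k) R,
        Polynomial.algebraMap_eq]
    · show φ (ψ (Polynomial.C (MvPolynomial.X i))) = algebraMap R RP (Polynomial.C (MvPolynomial.X i))
      rw [hψC, MvPolynomial.aeval_X, map_mul, hφC, hφX, MvPolynomial.aeval_X, mul_assoc, Units.inv_mul,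
        mul_one]
    · show φ (ψ Polynomial.X) = algebraMap R RP Polynomial.X
      rw [hψX, hφX, hSu]
  let P' : Ideal R := (maximalIdeal RP).comap φ
  haveI : P'.IsPrime := Ideal.IsPrime.comap _
  let RP' := Localization.AtPrime P'
  let φ' : RP' →+* RP := IsLocalization.lift (M := P'.primeCompl) (g := φ) fun y => by
    by_contra hy
    exact y.2 hy
  have hφ' : ∀ x, φ' (algebraMap R RP' x) = φ x := fun x => IsLocalization.lift_eq _ x
  have hψP : P = P'.comap ψ := by
    ext x
    show x ∈ P ↔ φ (ψ x) ∈ maximalIdeal RP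
    rw [hφψ]
    exact (IsLocalization.AtPrime.to_map_mem_maximal_iff RP P x).symm
  let ψ' : RP →+* RP' := Localization.localRingHom P P' ψ hψP
  have hψ' : ∀ x, ψ' (algebraMap R RP x) = algebraMap R RP' (ψ x) := fun x =>
    Localization.localRingHom_to_map _ _ _ _ x
  have h1 : φ'.comp ψ' = RingHom.id RP := by
    refine IsLocalization.ringHom_ext P.primeCompl (RingHom.ext fun x => ?_)
    show φ' (ψ' (algebraMap R RP x)) = algebraMap R RP x
    rw [hψ', hφ', hφψ]
  have h2 : ψ'.comp φ' = RingHom.id RP' := by
    refine IsLocalization.ringHom_ext P'.primeCompl (Polynomial.ringHom_ext'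
      (MvPolynomial.ringHom_ext (fun a => ?_) (fun i => ?_)) ?_)
    · show ψ' (φ' (algebraMap R RP' (Polynomial.C (MvPolynomial.C a)))) = algebraMap R RP' (Polynomial.C (MvPolynomial.C a))
      rw [hφ', hφC, ← MvPolynomial.algebraMap_eq, ρ₀.commutes, IsScalarTower.algebraMap_apply k R RP, hψ',
        IsScalarTower.algebraMap_apply k (MvPolynomial c.σ k) R, Polynomial.algebraMap_eq, hψC,
        AlgHom.commutes, IsScalarTower.algebraMap_apply k (MvPolynomial c.σ k) R, Polynomial.algebraMap_eq]
    · show ψ' (φ' (algebraMap R RP' (Polynomial.C (MvPolynomial.X i)))) = algebraMap R RP' (Polynomial.C (MvPolynomial.X i))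
      have hX : IsUnit (algebraMap R RP' Polynomial.X) := IsLocalization.map_units RP'
        (⟨Polynomial.X, fun h => (hφX ▸ h : (Su : RP) ∈ maximalIdeal RP) Su.isUnit⟩ : P'.primeCompl)
      apply hX.mul_left_cancel
      have h3 : algebraMap R RP' Polynomial.X = ψ' (Su : RP) := by rw [hSu, hψ', hψX]
      rw [hφ', hφC, MvPolynomial.aeval_X, map_mul, hψ', hψC, MvPolynomial.aeval_X, h3, mul_left_comm,
        ← map_mul ψ', Units.mul_inv, map_one, mul_one, map_mul, h3, mul_comm]
    · show ψ' (φ' (algebraMap R RP' Polynomial.X)) = algebraMap R RP' Polynomial.X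
      rw [hφ', hφX, hSu, hψ', hψX]
  have hbij : Function.Bijective φ' := Function.bijective_iff_has_inverse.2
    ⟨ψ', fun x => RingHom.congr_fun h2 x, fun x => RingHom.congr_fun h1 x⟩
  have hflat₀ : @RingHom.Flat (MvPolynomial c.σ k) RP _ _ ρ₀.toRingHom := by
    have : ρ₀.toRingHom = φ'.comp ((algebraMap R RP').comp Polynomial.C) :=
      RingHom.ext fun x => by
        show ρ₀ x = φ' (algebraMap R RP' (Polynomial.C x))
        rw [hφ', hφC]
    rw [this]
    haveI : Module.Flat R RP' := IsLocalization.flat RP' P'.primeCompl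
    have hC : (Polynomial.C : MvPolynomial c.σ k →+* R).Flat := by
      rw [← Polynomial.algebraMap_eq]; exact RingHom.flat_algebraMap_iff.2 inferInstance
    have hR : @RingHom.Flat R RP' _ _ (algebraMap R RP') := RingHom.flat_algebraMap_iff.2 inferInstance
    exact RingHom.Flat.comp (RingHom.Flat.comp hC hR) (@RingHom.Flat.of_bijective RP' RP _ _ φ' hbij)
  let ρ : Localization.AtPrime c.P →ₐ[k] RP := IsLocalization.liftAlgHom (M := c.P.primeCompl) (f := ρ₀) hρu
  have hρ : ∀ x, ρ (algebraMap _ _ x) = ρ₀ x := fun x => IsLocalization.lift_eq _ x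
  exact ⟨{
    R := R
    fs := Algebra.FormallySmooth.comp k (MvPolynomial c.σ k) R
    fp := Algebra.FinitePresentation.trans k (MvPolynomial c.σ k) R
    v := v
    ρ := ρ
    flat := flat_of_comp (A' := Localization.AtPrime c.P) (B := RP) c.P.primeCompl ρ.toRingHom (by
      rw [show ρ.toRingHom.comp (algebraMap (MvPolynomial c.σ k) (Localization.AtPrime c.P)) = ρ₀.toRingHom
        from RingHom.ext hρ]
      exact hflat₀)
    compat := fun x => RingHom.congr_fun (IsLocalization.ringHom_ext c.P.primeCompl
      (j := vL.comp ρ.toRingHom) (k := c.evP.toRingHom) (RingHom.ext fun y => by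
        show vL (ρ (algebraMap _ _ y)) = c.evP (algebraMap _ _ y)
        rw [hρ, hρ₀, c.evP_algebraMap])) x }⟩

/-- Unit factors do not change the ideal of powers. -/
theorem span_unit_pow {R : Type u} [CommRing R] {ι : Type*} (u : ι → Rˣ) (x : ι → R) (e : ℕ) :
    Ideal.span (Set.range fun i => ((u i : R) * x i) ^ e) = Ideal.span (Set.range fun i => x i ^ e) := by
  apply le_antisymm <;> rw [Ideal.span_le] <;> rintro _ ⟨i, rfl⟩
  · dsimp only
    rw [SetLike.mem_coe, mul_pow]
    exact Ideal.mul_mem_left _ _ (Ideal.subset_span ⟨i, rfl⟩)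
  · have h : x i ^ e = ((↑(u i)⁻¹ : R)) ^ e * ((u i : R) * x i) ^ e := by
      rw [← mul_pow, ← mul_assoc, Units.inv_mul, one_mul]
    dsimp only
    rw [SetLike.mem_coe, h]
    exact Ideal.mul_mem_left _ _ (Ideal.subset_span ⟨i, rfl⟩)

/-- Global parameters for the first `i` coordinates: they are coordinates up to units, satisfy the
annihilator conditions upstairs and downstairs, and their powers are combinations of prescribed elements
with prescribed coefficients. -/
structure Chain (c : Coord k (Localization.AtPrime q) d) {r : ℕ} (a : Fin r → Λ)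
    (cf : Fin d → Fin r → Localization.AtPrime q) (n e i : ℕ) where
  /-- the base -/
  D : Base c
  /-- the parameters -/
  el : Fin d → D.R
  /-- the units -/
  u : Fin d → (Localization.AtPrime D.P)ˣ
  /-- the coefficients -/
  cc : Fin d → Fin r → Λ
  loc_eq : ∀ j : Fin d, (j : ℕ) < i →
    algebraMap D.R (Localization.AtPrime D.P) (el j) = u j * D.ρ (algebraMap _ _ (c.g j))
  strictR : ∀ j : Fin d, (j : ℕ) < i → ∀ y,
    el j ^ 2 * y ∈ Ideal.span (Set.range fun l : {l : Fin d // (l : ℕ) < (j : ℕ)} => el l ^ e) →
      el j * y ∈ Ideal.span (Set.range fun l : {l : Fin d // (l : ℕ) < (j : ℕ)} => el l ^ e)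
  strictL : ∀ j : Fin d, (j : ℕ) < i → ∀ y,
    D.v (el j) ^ 2 * y ∈ Ideal.span (Set.range fun l : {l : Fin d // (l : ℕ) < (j : ℕ)} => D.v (el l) ^ e) →
      D.v (el j) * y ∈ Ideal.span (Set.range fun l : {l : Fin d // (l : ℕ) < (j : ℕ)} => D.v (el l) ^ e)
  pow_eq : ∀ j : Fin d, (j : ℕ) < i → D.v (el j) ^ n = ∑ l, a l * cc j l
  cc_eq : ∀ j : Fin d, (j : ℕ) < i → ∀ l,
    algebraMap Λ (Localization.AtPrime q) (cc j l) = D.vLoc (u j) ^ n * cf j l

theorem exists_chain [IsNoetherianRing Λ] [IsRegularLocalRing (Localization.AtPrime q)]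
    (hd : ringKrullDim (Localization.AtPrime q) = d) (c : Coord k (Localization.AtPrime q) d)
    (hgen : Ideal.span (Set.range fun i => algebraMap _ (Localization.AtPrime c.P) (c.g i)) =
      maximalIdeal (Localization.AtPrime c.P))
    (hdim : ringKrullDim (Localization.AtPrime c.P) = d)
    {r : ℕ} (a : Fin r → Λ) (cf : Fin d → Fin r → Localization.AtPrime q) {n e : ℕ} (hn : 0 < n) (he : 0 < e)
    (hcf : ∀ j, c.ev (c.g j) ^ n = ∑ l, algebraMap Λ (Localization.AtPrime q) (a l) * cf j l) :
    ∀ i, i ≤ d → Nonempty (Chain c a cf n e i) := by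
  classical
  intro i
  induction i with
  | zero =>
    intro _
    exact ⟨{ D := (exists_initial c).some, el := fun _ => 0, u := fun _ => 1, cc := fun _ _ => 0
             loc_eq := fun j hj => absurd hj (Nat.not_lt_zero _)
             strictR := fun j hj => absurd hj (Nat.not_lt_zero _)
             strictL := fun j hj => absurd hj (Nat.not_lt_zero _)
             pow_eq := fun j hj => absurd hj (Nat.not_lt_zero _)
             cc_eq := fun j hj => absurd hj (Nat.not_lt_zero _) }⟩
  | succ i ih =>
    intro hi
    obtain ⟨C⟩ := ih (Nat.le_of_succ_le hi)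
    obtain ⟨D, el, u, cc, hloc, hsR, hsL, hpow, hcc⟩ := C
    let L := Localization.AtPrime q
    let f := algebraMap Λ L
    let RP := Localization.AtPrime D.P
    let i₀ : Fin d := ⟨i, hi⟩
    haveI := D.isNoetherian
    haveI : IsLocalHom D.vLoc := Localization.isLocalHom_localRingHom _ _ _ _
    let gR : Fin d → RP := fun j => D.ρ (algebraMap _ _ (c.g j))
    have hgR : ∀ j, D.vLoc (gR j) = c.ev (c.g j) := fun j => by
      rw [show D.vLoc (gR j) = c.evP (algebraMap _ _ (c.g j)) from D.compat _, c.evP_algebraMap]
    -- upstairs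
    obtain ⟨⟨G, h⟩, hG⟩ := IsLocalization.surj D.P.primeCompl (gR i₀)
    have hG : gR i₀ * algebraMap D.R RP h = algebraMap D.R RP G := hG
    let J : Ideal D.R := Ideal.span (Set.range fun l : {l : Fin d // (l : ℕ) < (i₀ : ℕ)} => el l ^ e)
    have hJ : J.map (algebraMap D.R RP) =
        Ideal.span (Set.range fun l : {l : Fin d // (l : ℕ) < (i₀ : ℕ)} => gR l ^ e) := by
      rw [Ideal.map_span, ← Set.range_comp, ← span_unit_pow (fun l : {l : Fin d // (l : ℕ) < (i₀ : ℕ)} => u l)
        (fun l => gR l) e]
      refine congrArg (fun F => Ideal.span (Set.range F)) (funext fun l => ?_)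
      show algebraMap D.R RP (el l ^ e) = _
      rw [map_pow, hloc l.1 l.2]
    obtain ⟨H, hH, hHk⟩ := exists_killer D.P J
    let b := D.v (G * H)
    let hu : RPˣ := (IsLocalization.map_units RP h).unit * (IsLocalization.map_units RP (⟨H, hH⟩ : D.P.primeCompl)).unit
    have hloc' : algebraMap D.R RP (G * H) = hu * gR i₀ := by
      rw [map_mul, ← hG, Units.val_mul, IsUnit.unit_spec, IsUnit.unit_spec]; ring
    let val : L := D.vLoc hu
    have hval : IsUnit val := hu.isUnit.map D.vLoc
    have hb : f b = val * c.ev (c.g i₀) := by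
      rw [show f b = D.vLoc (algebraMap D.R RP (G * H)) from (D.vLoc_algebraMap _).symm, hloc', map_mul, hgR]
    -- clear the denominators
    obtain ⟨⟨s1, hs1⟩, hnum⟩ := IsLocalization.exist_integer_multiples_of_finite q.primeCompl
      (fun l => val ^ n * cf i₀ l)
    choose num hnum using hnum
    have hnum : ∀ l, f (num l) = f s1 * (val ^ n * cf i₀ l) := fun l => (hnum l).trans (Algebra.smul_def _ _)
    obtain ⟨⟨s2, hs2⟩, h2⟩ := (IsLocalization.eq_iff_exists q.primeCompl L).1
      (show f (s1 * b ^ n) = f (∑ l, a l * num l) by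
        rw [map_mul, map_pow, hb, mul_pow, hcf, map_sum, Finset.mul_sum, Finset.mul_sum]
        refine Finset.sum_congr rfl fun l _ => ?_
        rw [map_mul, hnum]; ring)
    have h2 : s2 * (s1 * b ^ n) = s2 * ∑ l, a l * num l := h2
    -- downstairs
    let JL : Ideal Λ := Ideal.span (Set.range fun l : {l : Fin d // (l : ℕ) < (i₀ : ℕ)} => D.v (el l) ^ e)
    obtain ⟨t, ht, htk⟩ := exists_killer q JL
    have hJL : JL.map f = Ideal.span (Set.range fun l : {l : Fin d // (l : ℕ) < (i₀ : ℕ)} => c.ev (c.g l) ^ e) := by
      rw [Ideal.map_span, ← Set.range_comp, ← span_unit_pow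
        (fun l : {l : Fin d // (l : ℕ) < (i₀ : ℕ)} => Units.map D.vLoc.toMonoidHom (u l)) (fun l => c.ev (c.g l)) e]
      refine congrArg (fun F => Ideal.span (Set.range F)) (funext fun l => ?_)
      show f (D.v (el l) ^ e) = _
      rw [map_pow, show f (D.v (el l)) = D.vLoc (algebraMap D.R RP (el l)) from (D.vLoc_algebraMap _).symm,
        hloc l.1 l.2, map_mul, hgR]
      rfl
    have hregL : RingTheory.Sequence.IsWeaklyRegular L (List.ofFn fun j => c.ev (c.g j)) :=
      (Groth.Agent.RegLoc.isRegular_of_span_range d L _ c.span_g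
        (Groth.Agent.RegLoc.spanFinrank_eq_of_dim hd)).1
    have hgm : ∀ j, c.ev (c.g j) ∈ maximalIdeal L := fun j => c.span_g.le (Ideal.subset_span ⟨j, rfl⟩)
    let w := t * s1 * s2
    have hw : w ∉ q := fun hw =>
      ((Ideal.IsPrime.mem_or_mem inferInstance hw).resolve_right hs2 |> Ideal.IsPrime.mem_or_mem inferInstance).elim ht hs1
    have hfw : IsUnit (f w) := IsLocalization.map_units L (⟨w, hw⟩ : q.primeCompl)
    -- the extension
    let D' := D.extend w
    let RP' := Localization.AtPrime (q.comap (D.vExtend w).toRingHom)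
    let le := D.locExtend w
    have hX : Polynomial.X ∈ (q.comap (D.vExtend w).toRingHom).primeCompl := fun hX => hw (by
      have hX' : D.vExtend w Polynomial.X ∈ q := hX
      rwa [D.vExtend_X] at hX')
    let ui : RP'ˣ := Units.map le.toMonoidHom hu *
      (IsLocalization.map_units RP' (⟨Polynomial.X, hX⟩ : (q.comap (D.vExtend w).toRingHom).primeCompl)).unit
    let vL' : RP' →+* L := Localization.localRingHom (q.comap (D.vExtend w).toRingHom) q (D.vExtend w).toRingHom rfl
    have hvL' : ∀ z : Polynomial D.R, vL' (algebraMap _ RP' z) = f (D.vExtend w z) := fun z =>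
      Localization.localRingHom_to_map _ _ _ _ z
    have hvle : ∀ z, vL' (le z) = D.vLoc z := fun z => RingHom.congr_fun
      (IsLocalization.ringHom_ext D.P.primeCompl (j := vL'.comp le) (k := D.vLoc) (RingHom.ext fun y => by
        show vL' (le (algebraMap _ _ y)) = D.vLoc (algebraMap _ _ y)
        rw [D.locExtend_algebraMap, hvL', D.vLoc_algebraMap]
        exact congrArg f (D.vExtend_C w y))) z
    let el' : Fin d → Polynomial D.R := Function.update (fun j => Polynomial.C (el j)) i₀ (Polynomial.C (G * H) * Polynomial.X)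
    have hne : ∀ j : Fin d, (j : ℕ) < i → j ≠ i₀ := fun j hj h => by rw [h] at hj; exact lt_irrefl _ hj
    have hel : ∀ j : Fin d, (j : ℕ) < i → el' j = Polynomial.C (el j) := fun j hj => Function.update_of_ne (hne j hj) _ _
    have hel₀ : el' i₀ = Polynomial.C (G * H) * Polynomial.X := Function.update_self _ _ _
    have hveli : D.vExtend w (el' i₀) = b * w := by rw [hel₀, map_mul, D.vExtend_C, D.vExtend_X]
    have hvel : ∀ j : Fin d, (j : ℕ) < i → D.vExtend w (el' j) = D.v (el j) := fun j hj => by
      rw [hel j hj, D.vExtend_C]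
    have hJ' : ∀ j : Fin d, (j : ℕ) ≤ i →
        Ideal.span (Set.range fun l : {l : Fin d // (l : ℕ) < (j : ℕ)} => el' l ^ e) =
          (Ideal.span (Set.range fun l : {l : Fin d // (l : ℕ) < (j : ℕ)} => el l ^ e)).map Polynomial.C := by
      intro j hj
      rw [Ideal.map_span, ← Set.range_comp]
      refine congrArg (fun F => Ideal.span (Set.range F)) (funext fun l => ?_)
      show el' l ^ e = Polynomial.C (el l ^ e)
      rw [hel l (lt_of_lt_of_le l.2 hj), map_pow]
    have hJL' : ∀ j : Fin d, (j : ℕ) ≤ i →
        Ideal.span (Set.range fun l : {l : Fin d // (l : ℕ) < (j : ℕ)} => D.vExtend w (el' l) ^ e) =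
          Ideal.span (Set.range fun l : {l : Fin d // (l : ℕ) < (j : ℕ)} => D.v (el l) ^ e) := by
      intro j hj
      refine congrArg (fun F => Ideal.span (Set.range F)) (funext fun l => ?_)
      rw [hvel l (lt_of_lt_of_le l.2 hj)]
    have hcases : ∀ j : Fin d, (j : ℕ) < i + 1 → (j : ℕ) < i ∨ j = i₀ := fun j hj =>
      (Nat.lt_succ_iff_lt_or_eq.1 hj).imp_right fun h => Fin.ext h
    have hstrict : ∀ j : Fin d, (j : ℕ) < i + 1 → ∀ y : Polynomial D.R,
        el' j ^ 2 * y ∈ Ideal.span (Set.range fun l : {l : Fin d // (l : ℕ) < (j : ℕ)} => el' l ^ e) →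
          el' j * y ∈ Ideal.span (Set.range fun l : {l : Fin d // (l : ℕ) < (j : ℕ)} => el' l ^ e) := by
      intro j hj y hy
      rcases hcases j hj with hji | rfl
      · rw [hJ' j (le_of_lt hji), Ideal.mem_map_C_iff] at hy ⊢
        intro m
        have := hy m
        rw [hel j hji, ← map_pow (Polynomial.C), Polynomial.coeff_C_mul] at this
        rw [hel j hji, Polynomial.coeff_C_mul]
        exact hsR j hji _ this
      · rw [hJ' i₀ le_rfl, Ideal.mem_map_C_iff] at hy ⊢
        intro m
        rw [hel₀, mul_assoc, Polynomial.coeff_C_mul]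
        rcases m with _ | m
        · rw [Polynomial.coeff_X_mul_zero, mul_zero]; exact zero_mem _
        rw [Polynomial.coeff_X_mul]
        have h1 := hy (m + 2)
        rw [hel₀, mul_pow, ← map_pow (Polynomial.C), mul_assoc, Polynomial.coeff_C_mul, Polynomial.coeff_X_pow_mul] at h1
        have hm1 := Ideal.mem_map_of_mem (algebraMap D.R RP) h1
        rw [hJ, map_mul, map_pow, hloc', mul_pow, mul_assoc, Ideal.unit_mul_mem_iff_mem _ (hu.isUnit.pow 2),
          pow_two, mul_assoc] at hm1
        have hm2 := D.mul_mem_imp hgen hdim he i₀ _ (D.mul_mem_imp hgen hdim he i₀ _ hm1)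
        rw [← hJ] at hm2
        have := J.mul_mem_left G (hHk _ hm2)
        rwa [← mul_assoc] at this
    refine ⟨{
      D := D'
      el := el'
      u := Function.update (fun j => Units.map le.toMonoidHom (u j)) i₀ ui
      cc := Function.update cc i₀ (fun l => w ^ (n - 1) * (t * s2) * num l)
      loc_eq := fun j hj => ?_
      strictR := fun j hj y hy => ?_
      strictL := fun j hj y hy => ?_
      pow_eq := fun j hj => ?_
      cc_eq := fun j hj l => ?_ }⟩
    · rcases hcases j hj with hji | rfl
      · rw [Function.update_of_ne (hne j hji), hel j hji]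
        show algebraMap _ RP' (Polynomial.C (el j)) = le (u j) * le (gR j)
        rw [← map_mul, ← hloc j hji]
        exact (D.locExtend_algebraMap w (el j)).symm
      · rw [Function.update_self, hel₀]
        show algebraMap (Polynomial D.R) RP' (Polynomial.C (G * H) * Polynomial.X) = (le hu * algebraMap (Polynomial D.R) RP' Polynomial.X) * le (gR i₀)
        rw [mul_right_comm, ← map_mul le, ← hloc', D.locExtend_algebraMap, map_mul]
    · exact hstrict j hj y hy
    · revert y
      show ∀ y, D.vExtend w (el' j) ^ 2 * y ∈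
          Ideal.span (Set.range fun l : {l : Fin d // (l : ℕ) < (j : ℕ)} => D.vExtend w (el' l) ^ e) →
        D.vExtend w (el' j) * y ∈
          Ideal.span (Set.range fun l : {l : Fin d // (l : ℕ) < (j : ℕ)} => D.vExtend w (el' l) ^ e)
      intro y hy
      rcases hcases j hj with hji | rfl
      · rw [hJL' j (le_of_lt hji)] at hy ⊢
        rw [hvel j hji] at hy ⊢
        exact hsL j hji y hy
      · rw [hJL' i₀ le_rfl] at hy ⊢
        rw [hveli] at hy ⊢
        have hm1 := Ideal.mem_map_of_mem f hy
        rw [hJL, map_mul, map_pow, map_mul, hb, show (val * c.ev (c.g i₀) * f w) ^ 2 * f y =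
          (val * f w) ^ 2 * (c.ev (c.g i₀) * (c.ev (c.g i₀) * f y)) by ring,
          Ideal.unit_mul_mem_iff_mem _ ((hval.mul hfw).pow 2)] at hm1
        have hm2 := Groth.Agent.RegPowH7.mul_mem_imp he _ hregL hgm i₀ _
          (Groth.Agent.RegPowH7.mul_mem_imp he _ hregL hgm i₀ _ hm1)
        rw [← hJL] at hm2
        have := JL.mul_mem_left (b * s1 * s2) (htk y hm2)
        convert this using 1
        simp only [w]; ring
    · show D.vExtend w (el' j) ^ n = _
      rcases hcases j hj with hji | rfl
      · rw [hvel j hji, Function.update_of_ne (hne j hji)]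
        exact hpow j hji
      · rw [Function.update_self, hveli]
        obtain ⟨n', rfl⟩ : ∃ n', n = n' + 1 := ⟨n - 1, by omega⟩
        calc (b * w) ^ (n' + 1) = w ^ n' * t * (s2 * (s1 * b ^ (n' + 1))) := by simp only [w]; ring
          _ = _ := by
            rw [h2, Finset.mul_sum, Finset.mul_sum]
            refine Finset.sum_congr rfl fun l _ => ?_
            rw [Nat.add_sub_cancel]; ring
    · rcases hcases j hj with hji | rfl
      · rw [Function.update_of_ne (hne j hji), Function.update_of_ne (hne j hji)]
        show _ = vL' (le (u j)) ^ n * _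
        rw [hvle]
        exact hcc j hji l
      · rw [Function.update_self, Function.update_self]
        show _ = vL' (le hu * algebraMap (Polynomial D.R) RP' Polynomial.X) ^ n * _
        rw [map_mul vL', hvle, hvL']
        show _ = (val * f (D.vExtend w Polynomial.X)) ^ n * _
        rw [D.vExtend_X, map_mul, map_mul, map_pow, hnum, map_mul]
        obtain ⟨n', rfl⟩ : ∃ n', n = n' + 1 := ⟨n - 1, by omega⟩
        rw [Nat.add_sub_cancel]
        simp only [w, map_mul]; ring

end Groth.Agent.InsepH7
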