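import Groth.Agent.Lib.InsepH7.Kernel
import Groth.Agent.Lib.SmoothingH7.StablyFree
import Groth.Agent.Lib.SmoothArtin29.Basic
import Mathlib.RingTheory.Ideal.Cotangent
import Mathlib.Algebra.CharP.Algebra
import Mathlib.FieldTheory.Perfect
import Mathlib.RingTheory.TensorProduct.Free

/-!
A basis of the cotangent space of a point of affine space whose coordinates are differentially
independent stays independent in a geometrically regular local algebra.
-/

set_option autoImplicit false
set_option linter.style.haveILetI false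

universe u

open scoped TensorProduct
open KaehlerDifferential IsLocalRing MvPolynomial

namespace Groth.Agent.InsepH7

/-- In characteristic `p` a local ring has an absolute derivation onto its cotangent space
restricting to the projection on the maximal ideal. -/
theorem exists_derivation_cotangent {S : Type u} [CommRing S] [IsLocalRing S] (p : ℕ) [Fact p.Prime] [CharP S p] :
    ∃ δ : Derivation ℤ S (CotangentSpace S),
      ∀ x (hx : x ∈ maximalIdeal S), δ x = (maximalIdeal S).toCotangent ⟨x, hx⟩ := by
  letI : Algebra (ZMod p) S := ZMod.algebra S p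
  let S₂ := S ⧸ maximalIdeal S ^ 2
  haveI : CharP (ResidueField S) p := by
    obtain ⟨q, hq⟩ := CharP.exists (ResidueField S)
    have : (p : ResidueField S) = 0 := by rw [← map_natCast (residue S), CharP.cast_eq_zero, map_zero]
    exact CharP.ringChar_of_prime_eq_zero (Fact.out : p.Prime) this ▸ ringChar.charP _
  haveI : Algebra.FormallySmooth (ZMod p) (ResidueField S) := SmoothArtin29.formallySmooth_prime (ZMod p) (Or.inl inferInstance) _
  let π : S₂ →ₐ[ZMod p] ResidueField S :=
    { toRingHom := Ideal.Quotient.lift _ (residue S) fun x hx => by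
        rw [residue_eq_zero_iff]; exact Ideal.pow_le_self two_ne_zero hx
      commutes' := fun c => by
        exact congrFun (congrArg DFunLike.coe (RingHom.ext_zmod
          ((Ideal.Quotient.lift _ (residue S) fun x hx => by
            rw [residue_eq_zero_iff]; exact Ideal.pow_le_self two_ne_zero hx).comp (algebraMap (ZMod p) S₂))
          (algebraMap (ZMod p) (ResidueField S)))) c }
  have hπs : Function.Surjective π := fun y => by
    obtain ⟨x, rfl⟩ := residue_surjective y
    exact ⟨Ideal.Quotient.mk _ x, rfl⟩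
  have hπk : RingHom.ker (π : S₂ →+* ResidueField S) = (maximalIdeal S).cotangentIdeal := by
    ext x
    obtain ⟨x, rfl⟩ := Ideal.Quotient.mk_surjective x
    show residue S x = 0 ↔ _
    rw [residue_eq_zero_iff, Ideal.mk_mem_cotangentIdeal]
  let σ := Algebra.FormallySmooth.liftOfSurjective (AlgHom.id (ZMod p) (ResidueField S)) π hπs
    ⟨2, by rw [hπk]; exact (maximalIdeal S).cotangentIdeal_square⟩
  have hσ : ∀ y, π (σ y) = y := Algebra.FormallySmooth.liftOfSurjective_apply (AlgHom.id _ _) π hπs _
  let j := (maximalIdeal S).cotangentToQuotientSquare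
  have hj : Function.Injective j := by
    intro a b h
    obtain ⟨a, rfl⟩ := Ideal.toCotangent_surjective _ a
    obtain ⟨b, rfl⟩ := Ideal.toCotangent_surjective _ b
    rw [Ideal.toCotangent_eq]
    exact Ideal.Quotient.eq.1 h
  have hmem : ∀ s, Ideal.Quotient.mk _ s - σ (residue S s) ∈ (maximalIdeal S).cotangentIdeal := fun s => by
    rw [← hπk, RingHom.mem_ker, map_sub]
    exact sub_eq_zero.2 (hσ (residue S s)).symm
  have hex : ∀ s, ∃ c : CotangentSpace S, j c = Ideal.Quotient.mk _ s - σ (residue S s) := fun s => by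
    obtain ⟨y, hy, hy'⟩ := (hmem s)
    exact ⟨(maximalIdeal S).toCotangent ⟨y, hy⟩, hy'⟩
  choose δ₀ hδ₀ using hex
  let δl : S →ₗ[ℤ] CotangentSpace S := AddMonoidHom.toIntLinearMap (AddMonoidHom.mk' δ₀ fun a b => hj (by
    rw [map_add, hδ₀, hδ₀, hδ₀, map_add, map_add, map_add]; abel))
  refine ⟨Derivation.mk' δl fun a b => hj (by
    show j (δ₀ (a * b)) = j (a • δ₀ b + b • δ₀ a)
    rw [map_add, map_smul, map_smul, hδ₀, hδ₀, hδ₀, map_mul, map_mul, map_mul,
      Algebra.smul_def, Algebra.smul_def, Ideal.Quotient.algebraMap_eq]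
    have h0 : (Ideal.Quotient.mk (maximalIdeal S ^ 2) a - σ (residue S a)) *
        (Ideal.Quotient.mk (maximalIdeal S ^ 2) b - σ (residue S b)) = 0 := by
      have := Ideal.mul_mem_mul (hmem a) (hmem b)
      rwa [← pow_two, (maximalIdeal S).cotangentIdeal_square, Ideal.mem_bot] at this
    linear_combination (-1 : S₂) * h0), fun x hx => hj ?_⟩
  show j (δ₀ x) = _
  rw [hδ₀, (residue_eq_zero_iff x).2 hx, map_zero, sub_zero]
  rfl

theorem exists_leibniz_cotangent {S : Type u} [CommRing S] [IsLocalRing S] (p : ℕ) [Fact p.Prime] [CharP S p] :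
    ∃ δ : S →+ CotangentSpace S, (∀ a b, δ (a * b) = a • δ b + b • δ a) ∧
      ∀ x (hx : x ∈ maximalIdeal S), δ x = (maximalIdeal S).toCotangent ⟨x, hx⟩ := by
  obtain ⟨δ, hδ⟩ := exists_derivation_cotangent (S := S) p
  exact ⟨δ.toLinearMap.toAddMonoidHom, fun a b => δ.leibniz a b, hδ⟩

variable {k L : Type u} [Field k] [CommRing L] [IsLocalRing L] [IsNoetherianRing L] [Algebra k L]
  {σ : Type u} [Fintype σ] [Algebra (MvPolynomial σ k) L] [IsScalarTower k (MvPolynomial σ k) L]

/-- Independence in the cotangent space of a geometrically regular local algebra. -/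
theorem cotangent_independent (p : ℕ) [Fact p.Prime] [CharP k p] (hreg : CAlg.IsGeometricallyRegular k L)
    (P : Ideal (MvPolynomial σ k)) [P.IsPrime] (hP : P = (maximalIdeal L).comap (algebraMap _ L))
    (hpd : ∀ g ∈ P, ∀ v, pderiv v g ∈ P)
    {h : ℕ} (g : Fin h → MvPolynomial σ k) (hg : ∀ j, g j ∈ P)
    (hli : LinearIndependent (ResidueField (Localization.AtPrime P)) fun j =>
      (maximalIdeal (Localization.AtPrime P)).toCotangent
        ⟨algebraMap _ _ (g j), (IsLocalization.AtPrime.to_map_mem_maximal_iff _ P _).2 (hg j)⟩) :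
    LinearIndependent (ResidueField L) fun j =>
      (maximalIdeal L).toCotangent ⟨algebraMap _ L (g j), Ideal.mem_comap.1 (hP.le (hg j))⟩ := by
  classical
  let R := MvPolynomial σ k
  let S := Localization.AtPrime P
  let K := ResidueField L
  haveI : CharP R p := inferInstance
  haveI : CharP S p := charP_of_injective_ringHom (IsLocalization.injective S P.primeCompl_le_nonZeroDivisors) p
  have hRK : ∀ r ∈ P, algebraMap R K r = 0 := fun r hr =>
    (residue_eq_zero_iff _).2 (Ideal.mem_comap.1 (hP.le hr))
  -- the residue field of `S` inside `K`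
  let f₁ : S →+* K := IsLocalization.lift (M := P.primeCompl) (g := algebraMap R K) fun y =>
    isUnit_iff_ne_zero.2 fun hy => y.2 (hP.ge ((residue_eq_zero_iff _).1 hy))
  have hf₁ : ∀ r, f₁ (algebraMap R S r) = algebraMap R K r := IsLocalization.lift_eq _
  have hf₁m : ∀ x ∈ maximalIdeal S, f₁ x = 0 := fun x hx => by
    obtain ⟨⟨r, s⟩, hrs⟩ := IsLocalization.surj P.primeCompl x
    have hr : r ∈ P := (IsLocalization.AtPrime.to_map_mem_maximal_iff S P r).1 (hrs ▸ Ideal.mul_mem_right _ _ hx)
    have := congrArg f₁ hrs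
    rw [map_mul, hf₁, hf₁, hRK r hr] at this
    exact (mul_eq_zero.1 this).resolve_right fun hs => s.2 (hP.ge ((residue_eq_zero_iff _).1 hs))
  letI : Algebra (ResidueField S) K := (Ideal.Quotient.lift (maximalIdeal S) f₁ hf₁m).toAlgebra
  rw [Fintype.linearIndependent_iff]
  intro lam hlam
  -- the relation among the differentials
  let ΩR := K ⊗[R] Ω[R⁄ℤ]
  let z : ΩR := ∑ j, lam j • ((1 : K) ⊗ₜ[R] D ℤ R (g j))
  let ψ : ΩR →ₗ[K] K ⊗[L] Ω[L⁄ℤ] := LinearMap.liftBaseChange K
    (((TensorProduct.mk L K Ω[L⁄ℤ] 1).restrictScalars R) ∘ₗ KaehlerDifferential.map ℤ ℤ R L)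
  have hψD : ∀ r, ψ ((1 : K) ⊗ₜ D ℤ R r) = (1 : K) ⊗ₜ D ℤ L (algebraMap R L r) := fun r => by
    show LinearMap.liftBaseChange K _ _ = _
    rw [LinearMap.liftBaseChange_tmul, LinearMap.comp_apply, KaehlerDifferential.map_D, one_smul]
    rfl
  have hψz : ψ z = 0 := by
    choose lam' hlam' using fun j => residue_surjective (lam j)
    let Δ : L → K ⊗[L] Ω[L⁄ℤ] := fun x => (1 : K) ⊗ₜ D ℤ L x
    have hu : (∑ j, lam' j * algebraMap R L (g j)) ∈ maximalIdeal L ^ 2 := by
      have h0 : (maximalIdeal L).toCotangent (∑ j, lam' j • (⟨algebraMap R L (g j), Ideal.mem_comap.1 (hP.le (hg j))⟩ :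
          maximalIdeal L)) = 0 := by
        rw [map_sum, ← hlam]
        refine Finset.sum_congr rfl fun j _ => ?_
        rw [map_smul, ← hlam' j]
        rfl
      rw [Ideal.toCotangent_eq_zero] at h0
      simpa using h0
    have hsq : ∀ x ∈ maximalIdeal L ^ 2, Δ x = 0 := by
      intro x hx
      rw [pow_two] at hx
      refine Submodule.mul_induction_on hx (fun a ha b hb => ?_) fun a b ha hb => by
        show (1 : K) ⊗ₜ[L] D ℤ L (a + b) = 0
        rw [map_add, TensorProduct.tmul_add]; exact (congrArg₂ (· + ·) ha hb).trans (add_zero 0)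
      show (1 : K) ⊗ₜ[L] D ℤ L (a * b) = 0
      rw [Derivation.leibniz, TensorProduct.tmul_add, ← TensorProduct.smul_tmul, ← TensorProduct.smul_tmul,
        Algebra.smul_def, Algebra.smul_def, mul_one, mul_one]
      have ha0 : algebraMap L K a = 0 := (residue_eq_zero_iff a).2 ha
      have hb0 : algebraMap L K b = 0 := (residue_eq_zero_iff b).2 hb
      rw [ha0, hb0, TensorProduct.zero_tmul, TensorProduct.zero_tmul, add_zero]
    rw [← hsq _ hu, map_sum]
    show _ = (1 : K) ⊗ₜ[L] D ℤ L (∑ j, lam' j * algebraMap R L (g j))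
    rw [map_sum, TensorProduct.tmul_sum]
    refine Finset.sum_congr rfl fun j _ => ?_
    rw [map_smul, hψD, Derivation.leibniz, TensorProduct.tmul_add, ← TensorProduct.smul_tmul,
      ← TensorProduct.smul_tmul, Algebra.smul_def, Algebra.smul_def, mul_one, mul_one,
      show algebraMap L K (algebraMap R L (g j)) = 0 from hRK _ (hg j), TensorProduct.zero_tmul, add_zero,
      TensorProduct.smul_tmul', smul_eq_mul, mul_one, ← hlam' j]
    rfl
  -- the relation comes from the ground field
  let κ : K ⊗[k] Ω[k⁄ℤ] →ₗ[K] ΩR := LinearMap.liftBaseChange K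
    (((TensorProduct.mk R K Ω[R⁄ℤ] 1).restrictScalars k) ∘ₗ KaehlerDifferential.map ℤ ℤ k R)
  have hκ : ∀ c : k, κ ((1 : K) ⊗ₜ D ℤ k c) = (1 : K) ⊗ₜ D ℤ R (C c) := fun c => by
    show LinearMap.liftBaseChange K _ _ = _
    rw [LinearMap.liftBaseChange_tmul, LinearMap.comp_apply, KaehlerDifferential.map_D, one_smul]
    rfl
  let Q := ΩR ⧸ LinearMap.range κ
  let δQ₀ : Derivation ℤ R Q :=
    (((LinearMap.range κ).mkQ.restrictScalars R) ∘ₗ (TensorProduct.mk R K Ω[R⁄ℤ] 1)).compDer (D ℤ R)
  have hC : ∀ c : k, δQ₀ (C c) = 0 := fun c =>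
    (Submodule.Quotient.mk_eq_zero _).2 ⟨_, hκ c⟩
  let δQ : Derivation k R Q := Derivation.mk'
    { toFun := δQ₀
      map_add' := fun a b => map_add δQ₀ a b
      map_smul' := fun c a => by
        rw [RingHom.id_apply, MvPolynomial.smul_eq_C_mul, Derivation.leibniz, hC, smul_zero, add_zero,
          ← MvPolynomial.algebraMap_eq, algebraMap_smul] }
    fun a b => δQ₀.leibniz a b
  have hzQ : (LinearMap.range κ).mkQ z = 0 := by
    rw [map_sum]
    refine Finset.sum_eq_zero fun j _ => ?_
    rw [map_smul]
    have h1 : δQ (g j) = 0 := by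
      have e : ∀ q : R, δQ q = ∑ v, pderiv v q • δQ (X v) := fun q => by
        induction q using MvPolynomial.induction_on with
        | C r =>
          rw [show (C r : R) = algebraMap k R r from rfl, δQ.map_algebraMap,
            Finset.sum_eq_zero fun v _ => ?_]
          rw [MvPolynomial.algebraMap_eq, pderiv_C, zero_smul]
        | add p q hp hq => simp only [map_add, hp, hq, add_smul, Finset.sum_add_distrib]
        | mul_X p i hp =>
          simp only [Derivation.leibniz, hp, pderiv_X, smul_eq_mul, add_smul, mul_smul, Finset.sum_add_distrib,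
            Finset.smul_sum]
          rw [add_comm (∑ x, p • _) _, add_comm]
          refine congrArg₂ (· + ·) rfl ?_
          rw [Finset.sum_eq_single i (fun k _ hk => by rw [Pi.single_eq_of_ne' hk, zero_smul, smul_zero]) (by simp),
            Pi.single_eq_same, one_smul]
      rw [e]
      refine Finset.sum_eq_zero fun v _ => ?_
      rw [← algebraMap_smul K (pderiv v (g j)) (δQ (X v)), hRK _ (hpd _ (hg j) v), zero_smul]
    rw [show (LinearMap.range κ).mkQ ((1 : K) ⊗ₜ[R] D ℤ R (g j)) = 0 from h1, smul_zero]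
  obtain ⟨w, hw⟩ := (Submodule.Quotient.mk_eq_zero _).1 hzQ
  have hψκ : ∀ v, ψ (κ v) = toTensorOmega k L K v := fun v => by
    induction v using TensorProduct.induction_on with
    | zero => simp
    | add a b ha hb => rw [map_add, map_add, map_add, ha, hb]
    | tmul c y =>
      have hy : y ∈ Submodule.span k (Set.range (D ℤ k)) := by rw [span_range_derivation]; trivial
      induction hy using Submodule.span_induction generalizing c with
      | mem _ hx =>
        obtain ⟨x, rfl⟩ := hx
        rw [toTensorOmega_tmul, show c ⊗ₜ[k] D ℤ k x = c • ((1 : K) ⊗ₜ[k] D ℤ k x) by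
          rw [TensorProduct.smul_tmul', smul_eq_mul, mul_one], map_smul, map_smul, hκ, hψD,
          TensorProduct.smul_tmul', smul_eq_mul, mul_one, ← MvPolynomial.algebraMap_eq,
          ← IsScalarTower.algebraMap_apply]
      | zero => simp
      | add u v _ _ hu hv => rw [TensorProduct.tmul_add, map_add, map_add, map_add, hu, hv]
      | smul r u _ hu => rw [← TensorProduct.smul_tmul]; exact hu (r • c)
  have hz0 : z = 0 := by
    have : w = 0 := toTensorOmega_injective k L K hreg residue_surjective (by
      rw [← hψκ, hw, hψz, map_zero])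
    rw [← hw, this, map_zero]
  -- project to the cotangent space
  obtain ⟨δ, hleib, hδ⟩ := exists_leibniz_cotangent (S := S) p
  let W₀ := CotangentSpace S
  let W := K ⊗[ResidueField S] W₀
  let δK : Derivation ℤ R W := Derivation.mk'
    (((TensorProduct.mk (ResidueField S) K W₀ 1).toAddMonoidHom.comp
      (δ.comp (algebraMap R S).toAddMonoidHom)).toIntLinearMap) fun a b => by
    rw [← algebraMap_smul K a, ← algebraMap_smul K b]
    show (1 : K) ⊗ₜ[ResidueField S] δ (algebraMap R S (a * b)) =
      algebraMap R K a • ((1 : K) ⊗ₜ[ResidueField S] δ (algebraMap R S b)) +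
        algebraMap R K b • ((1 : K) ⊗ₜ[ResidueField S] δ (algebraMap R S a))
    have e : ∀ (r : R) (v : W₀), (1 : K) ⊗ₜ[ResidueField S] (algebraMap R S r • v) =
        algebraMap R K r • ((1 : K) ⊗ₜ[ResidueField S] v) := fun r v => by
      rw [TensorProduct.smul_tmul', smul_eq_mul, mul_one, ← hf₁ r,
        show algebraMap R S r • v = residue S (algebraMap R S r) • v from rfl, ← TensorProduct.smul_tmul,
        Algebra.smul_def, mul_one]
      rfl
    rw [map_mul, hleib, TensorProduct.tmul_add, e, e]
  have h2 := congrArg (LinearMap.liftBaseChange K δK.liftKaehlerDifferential) hz0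
  rw [map_sum, map_zero] at h2
  have h3 : LinearIndependent K fun j => (1 : K) ⊗ₜ[ResidueField S] (maximalIdeal S).toCotangent
      ⟨algebraMap R S (g j), (IsLocalization.AtPrime.to_map_mem_maximal_iff S P _).2 (hg j)⟩ := by
    let b := Module.Basis.sumExtend hli
    have hb : ∀ j, b (Sum.inl j) = (maximalIdeal S).toCotangent
        ⟨algebraMap R S (g j), (IsLocalization.AtPrime.to_map_mem_maximal_iff S P _).2 (hg j)⟩ :=
      fun j => by simp [b, Module.Basis.sumExtend, Module.Basis.extend, Module.Basis.reindex_apply]; rfl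
    have := ((b.baseChange K).linearIndependent.comp Sum.inl Sum.inl_injective)
    convert this using 1
    funext j
    simp [Function.comp_def, Module.Basis.baseChange_apply, hb]; rfl
  refine Fintype.linearIndependent_iff.1 h3 lam (Eq.trans (Finset.sum_congr rfl fun j _ => ?_) h2)
  rw [map_smul, LinearMap.liftBaseChange_tmul, Derivation.liftKaehlerDifferential_comp_D, one_smul]
  show lam j • ((1 : K) ⊗ₜ[ResidueField S] _) = lam j • ((1 : K) ⊗ₜ[ResidueField S] δ (algebraMap R S (g j)))
  rw [hδ]

end Groth.Agent.InsepH7
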