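import Groth.Agent.Lib.AdicSmooth.Jacobian
import Groth.Agent.Lib.FSFlat3.Forward
import Mathlib.RingTheory.Kaehler.Basic
import Mathlib.RingTheory.LocalRing.ResidueField.Basic

/-!
Absolute differentials of a geometrically regular local algebra at its closed point.
-/

set_option autoImplicit false
set_option linter.style.haveILetI false

universe u

open scoped TensorProduct
open KaehlerDifferential IsLocalRing

namespace Groth.Agent.InsepH7

variable (k L K : Type u) [Field k] [CommRing L] [Field K] [Algebra k L] [Algebra k K] [Algebra L K]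
  [IsScalarTower k L K]

/-- `K ⊗ Ω_k → K ⊗ Ω_L`. -/
noncomputable def toTensorOmega : K ⊗[k] Ω[k⁄ℤ] →ₗ[K] K ⊗[L] Ω[L⁄ℤ] :=
  LinearMap.liftBaseChange K
    (((TensorProduct.mk L K Ω[L⁄ℤ] 1).restrictScalars k) ∘ₗ KaehlerDifferential.map ℤ ℤ k L)

theorem toTensorOmega_tmul (c : K) (x : k) :
    toTensorOmega k L K (c ⊗ₜ D ℤ k x) = c ⊗ₜ D ℤ L (algebraMap k L x) := by
  show LinearMap.liftBaseChange K _ _ = _
  rw [LinearMap.liftBaseChange_tmul, LinearMap.comp_apply, KaehlerDifferential.map_D]
  show c • ((1 : K) ⊗ₜ[L] D ℤ L (algebraMap k L x)) = _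
  rw [TensorProduct.smul_tmul', smul_eq_mul, mul_one]

theorem mapBaseChange_comp_toTensorOmega (w : K ⊗[k] Ω[k⁄ℤ]) :
    mapBaseChange ℤ L K (toTensorOmega k L K w) = mapBaseChange ℤ k K w := by
  induction w using TensorProduct.induction_on with
  | zero => simp
  | add a b ha hb => rw [map_add, map_add, map_add, ha, hb]
  | tmul c y =>
    have hy : y ∈ Submodule.span k (Set.range (D ℤ k)) := by rw [span_range_derivation]; trivial
    induction hy using Submodule.span_induction generalizing c with
    | mem _ hx =>
      obtain ⟨x, rfl⟩ := hx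
      rw [toTensorOmega_tmul, mapBaseChange_tmul, mapBaseChange_tmul, map_D, map_D,
        ← IsScalarTower.algebraMap_apply]
    | zero => simp
    | add u v _ _ hu hv => rw [TensorProduct.tmul_add, map_add, map_add, map_add, hu, hv]
    | smul r u _ hu => rw [← TensorProduct.smul_tmul]; exact hu (r • c)

variable [IsLocalRing L] [IsNoetherianRing L] (hreg : CAlg.IsGeometricallyRegular k L)
  (hs : Function.Surjective (algebraMap L K))

include hreg hs in
/-- Differentials of the ground field inject into those of the local ring at the closed point. -/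
theorem toTensorOmega_injective : Function.Injective (toTensorOmega k L K) := by
  have h : CAlgX.IsAdicFormallySmooth k L (maximalIdeal L) := FSFlat3.adicFS_iff_geometricallyRegular.2 hreg
  let M := K ⊗[k] Ω[k⁄ℤ]
  have hm : RingHom.ker (algebraMap L K) = maximalIdeal L :=
    IsLocalRing.eq_maximalIdeal (RingHom.ker_isMaximal_of_surjective _ hs)
  letI : Module (L ⧸ maximalIdeal L) M :=
    Module.compHom M (Ideal.Quotient.lift (maximalIdeal L) (algebraMap L K) fun x hx => by
      rw [← RingHom.mem_ker, hm]; exact hx)
  haveI : IsScalarTower L (L ⧸ maximalIdeal L) M := IsScalarTower.of_algebraMap_smul fun x m =>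
    (algebraMap_smul K x m : algebraMap L K x • m = x • m)
  let e : Derivation ℤ k M := ((TensorProduct.mk k K Ω[k⁄ℤ] 1)).compDer (D ℤ k)
  obtain ⟨d, hd⟩ := AdicSmooth.exists_extension (A := k) (B := L) (maximalIdeal L) h (M := M) e
  let Λi : K ⊗[L] Ω[L⁄ℤ] →ₗ[K] M := LinearMap.liftBaseChange K d.liftKaehlerDifferential
  refine Function.LeftInverse.injective (g := Λi) fun w => ?_
  induction w using TensorProduct.induction_on with
  | zero => simp
  | add a b ha hb => rw [map_add, map_add, ha, hb]
  | tmul c y =>
    have hy : y ∈ Submodule.span k (Set.range (D ℤ k)) := by rw [span_range_derivation]; trivial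
    induction hy using Submodule.span_induction generalizing c with
    | mem _ hx =>
      obtain ⟨x, rfl⟩ := hx
      rw [toTensorOmega_tmul]
      show LinearMap.liftBaseChange K _ _ = _
      rw [LinearMap.liftBaseChange_tmul, Derivation.liftKaehlerDifferential_comp_D, hd]
      show c • ((1 : K) ⊗ₜ[k] D ℤ k x) = _
      rw [TensorProduct.smul_tmul', smul_eq_mul, mul_one]
    | zero => simp
    | add u v _ _ hu hv => rw [TensorProduct.tmul_add, map_add, map_add, hu, hv]
    | smul r u _ hu => rw [← TensorProduct.smul_tmul]; exact hu (r • c)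

include hreg hs in
/-- The kernel of `K ⊗ Ω_k → Ω_K` is finite dimensional. -/
theorem ker_mapBaseChange_fg : (LinearMap.ker (mapBaseChange ℤ k K)).FG := by
  have hfg : (LinearMap.ker (mapBaseChange ℤ L K)).FG := by
    have hex := KaehlerDifferential.exact_kerCotangentToTensor_mapBaseChange ℤ L K hs
    haveI : Module.Finite L (RingHom.ker (algebraMap L K)).Cotangent :=
      Module.Finite.of_surjective _ (Ideal.toCotangent_surjective _)
    obtain ⟨G, hG⟩ := (Submodule.FG.map (kerCotangentToTensor ℤ L K) Module.Finite.fg_top)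
    refine ⟨G, le_antisymm (Submodule.span_le.2 fun x hx => ?_) fun x hx => ?_⟩
    · obtain ⟨y, -, rfl⟩ := hG.le (Submodule.subset_span hx)
      exact LinearMap.mem_ker.2 (hex.apply_apply_eq_zero y)
    · obtain ⟨y, rfl⟩ := (hex x).1 (LinearMap.mem_ker.1 hx)
      exact Submodule.span_subset_span L K _ (hG.ge ⟨y, trivial, rfl⟩)
  haveI : Module.Finite K (LinearMap.ker (mapBaseChange ℤ L K)) := Module.Finite.of_fg hfg
  let Φ : LinearMap.ker (mapBaseChange ℤ k K) →ₗ[K] LinearMap.ker (mapBaseChange ℤ L K) :=
    LinearMap.codRestrict _ ((toTensorOmega k L K).comp (Submodule.subtype _)) fun w => by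
      rw [LinearMap.mem_ker, LinearMap.comp_apply, mapBaseChange_comp_toTensorOmega]
      exact w.2
  haveI : IsNoetherian K (LinearMap.ker (mapBaseChange ℤ L K)) :=
    @isNoetherian_of_isNoetherianRing_of_finite K (LinearMap.ker (mapBaseChange ℤ L K)) _ (Submodule.addCommGroup _) _ _ _
  exact Module.Finite.iff_fg.1 (Module.Finite.of_injective Φ fun a b hab =>
    Subtype.ext (toTensorOmega_injective k L K hreg hs (congrArg Subtype.val hab)))

end Groth.Agent.InsepH7
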