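import Groth.Agent.Lib.InsepH7.CotInj
import Groth.Agent.Lib.ArtinSubH7.Main
import Groth.Agent.Lib.SmoothingH7.NilpInd
import Groth.Agent.Lib.Miracle4
import Groth.Agent.Lib.Depth.CM
import Groth.Agent.Lib.WEtaleH7.Misc
import Groth.Agent.Lib.RegLoc.Sop
import Mathlib.RingTheory.Unramified.LocalRing
import Mathlib.RingTheory.Unramified.Field
import Mathlib.RingTheory.Smooth.Fiber
import Mathlib.RingTheory.RegularLocalRing.Polynomial
import Mathlib.RingTheory.Kaehler.Basic
import Mathlib.RingTheory.Flat.FaithfullyFlat.Algebra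

/-!
Polynomial coordinates for a geometrically regular local algebra containing a given finite set modulo a
power of the maximal ideal, up to an étale extension.
-/

set_option autoImplicit false
set_option linter.style.haveILetI false

universe u

open scoped TensorProduct
open IsLocalRing MvPolynomial

namespace Groth.Agent.InsepH7

variable {k L : Type u} [Field k] [CommRing L] [IsLocalRing L] [IsNoetherianRing L] [Algebra k L]

/-- The differentials of a finite set whose span is everything contain a basis. -/
theorem exists_basis_D (E₀ : Type u) [Field E₀] [Algebra k E₀] [Algebra.EssFiniteType k E₀] :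
    ∃ (r : ℕ) (y : Fin r → E₀), LinearIndependent E₀ (fun v => KaehlerDifferential.D k E₀ (y v)) ∧
      Submodule.span E₀ (Set.range fun v => KaehlerDifferential.D k E₀ (y v)) = ⊤ := by
  obtain ⟨b, hb, hspan, hli⟩ := exists_linearIndependent E₀ (Set.range (KaehlerDifferential.D k E₀))
  rw [KaehlerDifferential.span_range_derivation] at hspan
  haveI : Finite b := hli.finite
  letI := Fintype.ofFinite b
  choose g hg using fun i : b => hb i.2
  refine ⟨Fintype.card b, g ∘ (Fintype.equivFin b).symm, ?_, ?_⟩
  · have : LinearIndependent E₀ (fun v => ((Fintype.equivFin b).symm v : Ω[E₀⁄k])) :=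
      hli.comp _ (Fintype.equivFin b).symm.injective
    simpa [Function.comp_def, hg] using this
  · rw [← hspan]
    congr 1
    ext x
    constructor
    · rintro ⟨v, rfl⟩; simp only [Function.comp_apply, hg]; exact Subtype.prop _
    · intro hx; exact ⟨Fintype.equivFin b ⟨x, hx⟩, by simp [hg]⟩

/-- Coordinates: an ordered family of polynomial variables whose local ring is regular with parameters
mapping to parameters of `L`. -/
structure Coord (k L : Type u) [Field k] [CommRing L] [IsLocalRing L] [Algebra k L] (d : ℕ) where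
  /-- the variables -/
  σ : Type u
  [fin : Fintype σ]
  /-- the evaluation -/
  ev : MvPolynomial σ k →ₐ[k] L
  /-- the parameters -/
  g : Fin d → MvPolynomial σ k
  /-- parameters generate -/
  span_g : Ideal.span (Set.range fun i => ev (g i)) = maximalIdeal L

attribute [instance] Coord.fin

variable {d : ℕ}

/-- The prime under the closed point. -/
noncomputable def Coord.P (c : Coord k L d) : Ideal (MvPolynomial c.σ k) := (maximalIdeal L).comap c.ev

instance (c : Coord k L d) : c.P.IsPrime := Ideal.IsPrime.comap _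

/-- The map from the local ring of the coordinates. -/
noncomputable def Coord.evP (c : Coord k L d) : Localization.AtPrime c.P →ₐ[k] L :=
  IsLocalization.liftAlgHom (M := c.P.primeCompl) (f := c.ev) fun y => by
    by_contra hy
    exact y.2 hy

omit [IsNoetherianRing L] in
theorem Coord.evP_algebraMap (c : Coord k L d) (x : MvPolynomial c.σ k) :
    c.evP (algebraMap _ _ x) = c.ev x := IsLocalization.lift_eq _ x

theorem exists_coord (p : ℕ) [Fact p.Prime] [CharP k p] [IsRegularLocalRing L]
    (hreg : CAlg.IsGeometricallyRegular k L) (hd : ringKrullDim L = d) (N : ℕ) (hN : 2 ≤ N)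
    (E : Finset (L ⧸ maximalIdeal L ^ N)) :
    ∃ c : Coord k L d,
      Ideal.span (Set.range fun i => algebraMap _ (Localization.AtPrime c.P) (c.g i)) =
        maximalIdeal (Localization.AtPrime c.P) ∧
      ringKrullDim (Localization.AtPrime c.P) = d ∧
      ∃ (T : Type u) (_ : CommRing T) (_ : Algebra (Localization.AtPrime c.P) T)
        (ι : T →+* L ⧸ maximalIdeal L ^ N),
        (∀ x, ι (algebraMap _ T x) = Ideal.Quotient.mk _ (c.evP x)) ∧
        (∀ e ∈ E, e ∈ Set.range ι) ∧ Function.Injective ι ∧
        (∀ {r : ℕ} (a : Fin r → T) (x : T), ι x ∈ Ideal.span (Set.range (ι ∘ a)) → x ∈ Ideal.span (Set.range a)) ∧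
        (maximalIdeal (Localization.AtPrime c.P) ^ N).map (algebraMap _ T) = ⊥ ∧
        ∃ (_ : Algebra (Localization.AtPrime c.P ⧸ maximalIdeal (Localization.AtPrime c.P) ^ N) T)
          (_ : IsScalarTower (Localization.AtPrime c.P)
            (Localization.AtPrime c.P ⧸ maximalIdeal (Localization.AtPrime c.P) ^ N) T),
          Algebra.Etale (Localization.AtPrime c.P ⧸ maximalIdeal (Localization.AtPrime c.P) ^ N) T := by
  classical
  let LN := L ⧸ maximalIdeal L ^ N
  have hNne : maximalIdeal L ^ N ≠ ⊤ := fun h =>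
    (maximalIdeal.isMaximal L).ne_top (top_le_iff.1 (h ▸ Ideal.pow_le_self (by omega)))
  haveI : Nontrivial LN := Ideal.Quotient.nontrivial_iff.2 hNne
  haveI : IsLocalRing LN := IsLocalRing.of_surjective' (Ideal.Quotient.mk _) Ideal.Quotient.mk_surjective
  haveI : IsLocalHom (algebraMap L LN) :=
    ((Ideal.Quotient.mk_surjective (I := maximalIdeal L ^ N))).isLocalHom _
  have hmLN : (maximalIdeal L).map (algebraMap L LN) = maximalIdeal LN :=
    IsLocalRing.map_maximalIdeal_of_surjective _ Ideal.Quotient.mk_surjective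
  haveI : IsArtinianRing LN := by
    rw [isArtinianRing_iff_isNilpotent_maximalIdeal]
    exact ⟨N, by rw [← hmLN, ← Ideal.map_pow]; exact Ideal.map_quotient_self _⟩
  let K := ResidueField LN
  haveI : IsScalarTower k L K := IsScalarTower.of_algebraMap_eq fun c => by
    rw [IsScalarTower.algebraMap_apply k LN K, IsScalarTower.algebraMap_apply L LN K,
      ← IsScalarTower.algebraMap_apply k L LN]
  have hsK : Function.Surjective (algebraMap L K) := by
    rw [IsScalarTower.algebraMap_eq L LN K]
    exact residue_surjective.comp Ideal.Quotient.mk_surjective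
  have hker := ker_mapBaseChange_fg k L K hreg hsK
  obtain ⟨T₀, hT₀loc, hET, hTart, hTflat, hTess, hTm⟩ := ArtinSubH7.exists_subalgebra_of_ker p hker E
  haveI := hTflat
  haveI := hTess
  haveI := hTart
  haveI : IsLocalHom (algebraMap T₀ LN) := ⟨fun a ha => by
    by_contra hna
    have : algebraMap T₀ LN a ∈ maximalIdeal LN := hTm ▸ Ideal.mem_map_of_mem _ hna
    exact this ha⟩
  haveI : Module.FaithfullyFlat T₀ LN := Module.FaithfullyFlat.of_flat_of_isLocalHom
  let E₀ := ResidueField T₀
  haveI : Algebra.EssFiniteType k E₀ := Algebra.EssFiniteType.comp k T₀ E₀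
  obtain ⟨r₁, y₀, hyli, hysp⟩ := exists_basis_D (k := k) E₀
  choose y hy using fun v => residue_surjective (y₀ v)
  choose Y hY using fun v => Ideal.Quotient.mk_surjective (I := maximalIdeal L ^ N) (y v : LN)
  let ι₁ : Type u := ULift.{u} (Fin r₁)
  let R₁ := MvPolynomial ι₁ k
  let ev₁ : R₁ →ₐ[k] L := aeval fun v => Y v.down
  let evT : R₁ →ₐ[k] T₀ := aeval fun v => y v.down
  have hevT : ∀ x, (evT x : LN) = Ideal.Quotient.mk _ (ev₁ x) := fun x =>
    DFunLike.congr_fun (MvPolynomial.algHom_ext (f := T₀.val.comp evT)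
      (g := (Ideal.Quotient.mkₐ k (maximalIdeal L ^ N)).comp ev₁) fun v => by simp [evT, ev₁, hY]) x
  letI : Algebra R₁ L := ev₁.toRingHom.toAlgebra
  haveI : IsScalarTower k R₁ L := IsScalarTower.of_algebraMap_eq fun c => (ev₁.commutes c).symm
  let P₁ : Ideal R₁ := (maximalIdeal L).comap (algebraMap R₁ L)
  haveI : P₁.IsPrime := Ideal.IsPrime.comap _
  let res₁ : R₁ →ₐ[k] E₀ := (IsScalarTower.toAlgHom k T₀ E₀).comp evT
  have hP₁ : ∀ x, x ∈ P₁ ↔ res₁ x = 0 := fun x => by
    show ev₁ x ∈ maximalIdeal L ↔ residue T₀ (evT x) = 0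
    rw [residue_eq_zero_iff, mem_maximalIdeal, mem_maximalIdeal, mem_nonunits_iff, mem_nonunits_iff,
      ← isUnit_map_iff (algebraMap T₀ LN), show algebraMap T₀ LN (evT x) = algebraMap L LN (ev₁ x) from hevT x,
      isUnit_map_iff (algebraMap L LN)]
  have hpd : ∀ g ∈ P₁, ∀ v, pderiv v g ∈ P₁ := by
    intro g hg v
    rw [hP₁]
    letI : Algebra R₁ E₀ := res₁.toRingHom.toAlgebra
    haveI : IsScalarTower k R₁ E₀ := IsScalarTower.of_algebraMap_eq fun c => (res₁.commutes c).symm
    let D₁ : Derivation k R₁ Ω[E₀⁄k] := (KaehlerDifferential.D k E₀).compAlgebraMap R₁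
    have eAll : ∀ q : R₁, D₁ q = ∑ w, pderiv w q • D₁ (X w) := fun q => by
      induction q using MvPolynomial.induction_on with
      | C r =>
        rw [show (C r : R₁) = algebraMap k R₁ r from rfl, D₁.map_algebraMap, Finset.sum_eq_zero fun w _ => ?_]
        rw [MvPolynomial.algebraMap_eq, pderiv_C, zero_smul]
      | add p q hp hq => simp only [map_add, hp, hq, add_smul, Finset.sum_add_distrib]
      | mul_X p i hp =>
        simp only [Derivation.leibniz, hp, pderiv_X, smul_eq_mul, add_smul, mul_smul, Finset.sum_add_distrib,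
          Finset.smul_sum]
        rw [add_comm (∑ x, p • _) _, add_comm]
        refine congrArg₂ (· + ·) rfl ?_
        rw [Finset.sum_eq_single i (fun k _ hk => by rw [Pi.single_eq_of_ne' hk, zero_smul, smul_zero]) (by simp),
          Pi.single_eq_same, one_smul]
    have h0 : D₁ g = 0 := by
      show KaehlerDifferential.D k E₀ (res₁ g) = 0
      rw [(hP₁ g).1 hg, map_zero]
    have e := eAll g
    rw [h0] at e
    have hD : ∀ w, D₁ (X w) = KaehlerDifferential.D k E₀ (y₀ w.down) := fun w => by
      show KaehlerDifferential.D k E₀ (residue T₀ (evT (X w))) = _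
      rw [← hy, show evT (X w) = y w.down from aeval_X _ _]
    have hli' : LinearIndependent E₀ fun w : ι₁ => KaehlerDifferential.D k E₀ (y₀ w.down) :=
      hyli.comp _ ULift.down_injective
    refine Fintype.linearIndependent_iff.1 hli' (fun w => res₁ (pderiv w g)) ?_ v
    refine Eq.trans (Finset.sum_congr rfl fun w _ => ?_) e.symm
    rw [hD]
    exact algebraMap_smul E₀ (pderiv w g) (KaehlerDifferential.D k E₀ (y₀ w.down))
  -- minimal generators at the first prime
  let S₁ := Localization.AtPrime P₁
  haveI : IsNoetherianRing S₁ := IsLocalization.isNoetherianRing P₁.primeCompl S₁ inferInstance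
  let bas₀ := Module.finBasis (ResidueField S₁) (CotangentSpace S₁)
  have hbas : ∀ j, ∃ g ∈ P₁, ∃ hg : algebraMap R₁ S₁ g ∈ maximalIdeal S₁, ∃ u : ResidueField S₁, u ≠ 0 ∧
      (maximalIdeal S₁).toCotangent ⟨_, hg⟩ = u • bas₀ j := fun j => by
    obtain ⟨⟨x, hx⟩, hxj⟩ := Ideal.toCotangent_surjective _ (bas₀ j)
    obtain ⟨⟨g, s⟩, hgs⟩ := IsLocalization.surj P₁.primeCompl x
    have hgm : algebraMap R₁ S₁ g ∈ maximalIdeal S₁ := hgs ▸ Ideal.mul_mem_right _ _ hx
    refine ⟨g, (IsLocalization.AtPrime.to_map_mem_maximal_iff S₁ P₁ g).1 hgm, hgm,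
      residue S₁ (algebraMap R₁ S₁ s), ?_, ?_⟩
    · rw [Ne, residue_eq_zero_iff, IsLocalization.AtPrime.to_map_mem_maximal_iff S₁ P₁]
      exact s.2
    · rw [← hxj]
      show _ = algebraMap R₁ S₁ s • (maximalIdeal S₁).toCotangent ⟨x, hx⟩
      rw [← map_smul]
      congr 1
      exact Subtype.ext (hgs.symm.trans (mul_comm _ _))
  choose g₀ hg₀ hg₀m u hu hgu using hbas
  have hli₁ : LinearIndependent (ResidueField S₁) fun j => (maximalIdeal S₁).toCotangent
      ⟨algebraMap R₁ S₁ (g₀ j), (IsLocalization.AtPrime.to_map_mem_maximal_iff S₁ P₁ _).2 (hg₀ j)⟩ := by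
    have := bas₀.linearIndependent.units_smul fun j => Units.mk0 (u j) (hu j)
    convert this using 1
    funext j
    exact hgu j
  have hliL := cotangent_independent p hreg P₁ rfl hpd g₀ hg₀ hli₁
  -- complete them by elements of the subalgebra
  let W := CotangentSpace L
  let h := Module.finrank (ResidueField S₁) (CotangentSpace S₁)
  let v₀ : Fin h → W := fun j => (maximalIdeal L).toCotangent ⟨algebraMap R₁ L (g₀ j), hg₀ j⟩
  let U := Submodule.span (ResidueField L) (Set.range v₀)
  let S : Set W := {w | ∃ (x : L) (hx : x ∈ maximalIdeal L),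
    Ideal.Quotient.mk (maximalIdeal L ^ N) x ∈ T₀ ∧ (maximalIdeal L).toCotangent ⟨x, hx⟩ = w}
  have hS : Submodule.span (ResidueField L) S = ⊤ := by
    rw [eq_top_iff]
    intro w _
    obtain ⟨⟨x, hx⟩, rfl⟩ := Ideal.toCotangent_surjective _ w
    have hx' : algebraMap L LN x ∈ maximalIdeal LN := hmLN ▸ Ideal.mem_map_of_mem _ hx
    rw [← hTm] at hx'
    suffices H : ∃ (x' : L) (hx' : x' ∈ maximalIdeal L), algebraMap L LN x' = algebraMap L LN x ∧
        (maximalIdeal L).toCotangent ⟨x', hx'⟩ ∈ Submodule.span (ResidueField L) S by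
      obtain ⟨x', hx'm, heq, hmem⟩ := H
      suffices he : (maximalIdeal L).toCotangent ⟨x, hx⟩ = (maximalIdeal L).toCotangent ⟨x', hx'm⟩ by
        rw [he]; exact hmem
      rw [Ideal.toCotangent_eq]
      exact Ideal.pow_le_pow_right hN (Ideal.Quotient.eq.1 heq.symm)
    generalize algebraMap L LN x = z at hx'
    induction hx' using Submodule.span_induction with
    | mem z hz =>
      obtain ⟨t, ht, rfl⟩ := hz
      obtain ⟨t', ht'⟩ := Ideal.Quotient.mk_surjective (I := maximalIdeal L ^ N) (t : LN)
      have htm : t' ∈ maximalIdeal L := by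
        by_contra hc
        have hu : IsUnit (algebraMap T₀ LN t) := by
          show IsUnit (t : LN)
          rw [← ht']
          exact (notMem_maximalIdeal.1 hc).map (Ideal.Quotient.mk _)
        exact ht ((isUnit_map_iff (algebraMap T₀ LN) t).1 hu)
      exact ⟨t', htm, ht', Submodule.subset_span ⟨t', htm, ht' ▸ t.2, rfl⟩⟩
    | zero =>
      refine ⟨0, zero_mem _, map_zero _, ?_⟩
      rw [show (⟨0, zero_mem _⟩ : maximalIdeal L) = 0 from rfl, map_zero]
      exact zero_mem _
    | add z z' _ _ hz hz' =>
      obtain ⟨a, ha, rfl, ha'⟩ := hz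
      obtain ⟨b, hb, rfl, hb'⟩ := hz'
      refine ⟨a + b, add_mem ha hb, map_add _ _ _, ?_⟩
      rw [show (⟨a + b, add_mem ha hb⟩ : maximalIdeal L) = ⟨a, ha⟩ + ⟨b, hb⟩ from rfl, map_add]
      exact add_mem ha' hb'
    | smul c z _ hz =>
      obtain ⟨a, ha, rfl, ha'⟩ := hz
      obtain ⟨c, rfl⟩ := Ideal.Quotient.mk_surjective c
      refine ⟨c * a, Ideal.mul_mem_left _ _ ha, map_mul _ _ _, ?_⟩
      rw [show (⟨c * a, Ideal.mul_mem_left _ _ ha⟩ : maximalIdeal L) = c • ⟨a, ha⟩ from rfl, map_smul]
      exact Submodule.smul_of_tower_mem _ c ha'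
  have hhd : h ≤ d := by
    have := hliL.fintype_card_le_finrank
    rw [Fintype.card_fin] at this
    exact_mod_cast (show ((h : ℕ∞) : WithBot ℕ∞) ≤ (d : WithBot ℕ∞) by
      rw [← hd, ← (IsRegularLocalRing.iff_finrank_cotangentSpace L).1 inferInstance]
      exact_mod_cast this)
  have hdW : Module.finrank (ResidueField L) W = d := by
    have := (IsRegularLocalRing.iff_finrank_cotangentSpace L).1 inferInstance
    rw [hd] at this
    exact_mod_cast this
  obtain ⟨f, hfS, hfspan, hfli⟩ := exists_linearIndependent (ResidueField L) (U.mkQ '' S)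
  have hfspan' : Submodule.span (ResidueField L) f = ⊤ := by
    rw [hfspan, Submodule.span_image, hS, Submodule.map_top, Submodule.range_mkQ]
  haveI : Finite f := hfli.finite
  letI := Fintype.ofFinite f
  have hcardf : Fintype.card f + h = d := by
    have h1 : Module.finrank (ResidueField L) (W ⧸ U) = Fintype.card f := by
      have hb := Module.Basis.mk hfli (by rw [Subtype.range_coe]; exact hfspan'.ge)
      exact Module.finrank_eq_card_basis hb
    have h2 : Module.finrank (ResidueField L) U = h := by
      rw [finrank_span_eq_card hliL, Fintype.card_fin]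
    have := Submodule.finrank_quotient_add_finrank U
    omega
  choose sx hsx hsxU using fun i : f => hfS i.2
  choose X₀ hX₀m hX₀T hX₀ using hsx
  -- the coordinates
  let σ := ι₁ ⊕ f
  let R' := MvPolynomial σ k
  let ev : R' →ₐ[k] L := aeval (Sum.elim (fun v => Y v.down) X₀)
  have hev₁ : ∀ x, ev (rename Sum.inl x) = ev₁ x := fun x => (aeval_rename (R := k) (Sum.inl : ι₁ → σ) _ x).trans rfl
  have hevX : ∀ i : f, ev (X (Sum.inr i : σ)) = X₀ i := fun i => aeval_X _ _
  let e := (finSumFinEquiv (m := h) (n := Fintype.card f)).trans (finCongr (by omega : h + Fintype.card f = d))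
  let gs : Fin h ⊕ Fin (Fintype.card f) → R' :=
    Sum.elim (fun j => rename Sum.inl (g₀ j)) (fun j => X (Sum.inr ((Fintype.equivFin f).symm j) : σ))
  let g : Fin d → R' := gs ∘ e.symm
  have hrange : Set.range g = Set.range gs := by simp [g, Set.range_comp]
  have hspan : Ideal.span (Set.range fun i => ev (g i)) = maximalIdeal L := by
    have hle : Ideal.span (Set.range fun i => ev (g i)) ≤ maximalIdeal L := by
      rw [Ideal.span_le]
      rintro _ ⟨i, rfl⟩
      show ev (gs (e.symm i)) ∈ maximalIdeal L
      rcases e.symm i with j | j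
      · show ev (rename Sum.inl (g₀ j)) ∈ _
        rw [hev₁]; exact hg₀ j
      · show ev (X (Sum.inr _ : σ)) ∈ _
        rw [hevX]; exact hX₀m _
    refine le_antisymm hle (Submodule.le_of_le_smul_of_le_jacobson_bot (IsNoetherian.noetherian _)
      (IsLocalRing.maximalIdeal_le_jacobson ⊥) ?_)
    rw [Ideal.smul_eq_mul, ← pow_two]
    intro x hx
    let J : Submodule L (maximalIdeal L) := Submodule.comap (maximalIdeal L).subtype
      (Ideal.span (Set.range fun i => ev (g i)))
    have hJ : (J.map (maximalIdeal L).toCotangent : Submodule L W) = ⊤ := by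
      rw [eq_top_iff]
      intro w _
      have hgs : ∀ s, ∃ hs : ev (gs s) ∈ maximalIdeal L, (⟨_, hs⟩ : maximalIdeal L) ∈ J := fun s => by
        have h1 : ev (gs s) ∈ Ideal.span (Set.range fun i => ev (g i)) :=
          Ideal.subset_span ⟨e s, by simp [g]⟩
        exact ⟨hle h1, h1⟩
      have hw : w ∈ Submodule.span (ResidueField L) (Set.range v₀) ⊔ Submodule.span (ResidueField L) (Set.range sx) := by
        have h3 : U.mkQ w ∈ (Submodule.span (ResidueField L) (Set.range sx)).map U.mkQ := by
          rw [Submodule.map_span, ← Set.range_comp, show U.mkQ ∘ sx = ((↑) : f → W ⧸ U) from funext hsxU,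
            Subtype.range_coe, hfspan']
          trivial
        obtain ⟨u', hu', hue⟩ := h3
        rw [← sub_add_cancel w u']
        refine Submodule.add_mem_sup ?_ hu'
        show w - u' ∈ U
        rw [← Submodule.Quotient.mk_eq_zero U, ← Submodule.mkQ_apply, map_sub, hue, sub_self]
      have key : ∀ w' ∈ Submodule.span (ResidueField L) (Set.range v₀ ∪ Set.range sx),
          w' ∈ J.map (maximalIdeal L).toCotangent := by
        intro w' hw'
        induction hw' using Submodule.span_induction with
        | mem z hz =>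
          rcases hz with ⟨j, rfl⟩ | ⟨i, rfl⟩
          · obtain ⟨hs, hs'⟩ := hgs (Sum.inl j)
            refine ⟨⟨_, hs⟩, hs', congrArg (maximalIdeal L).toCotangent (Subtype.ext ?_)⟩
            exact hev₁ (g₀ j)
          · obtain ⟨hs, hs'⟩ := hgs (Sum.inr (Fintype.equivFin f i))
            refine ⟨⟨_, hs⟩, hs', ?_⟩
            rw [← hX₀ i]
            refine congrArg (maximalIdeal L).toCotangent (Subtype.ext ?_)
            show ev (X (Sum.inr _ : σ)) = X₀ i
            rw [hevX, Equiv.symm_apply_apply]
        | zero => exact zero_mem _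
        | add a b _ _ ha hb => exact add_mem ha hb
        | smul c a _ ha =>
          obtain ⟨c, rfl⟩ := residue_surjective c
          exact Submodule.smul_mem _ c ha
      rw [← Submodule.span_union] at hw
      exact key w hw
    obtain ⟨j, hj, hjx⟩ := hJ.ge (Submodule.mem_top (x := (maximalIdeal L).toCotangent ⟨x, hx⟩))
    rw [Ideal.toCotangent_eq] at hjx
    rw [← sub_sub_cancel (j : L) x]
    exact sub_mem (Submodule.mem_sup_left hj) (Submodule.mem_sup_right hjx)
  let c : Coord k L d := ⟨σ, ev, g, hspan⟩
  refine ⟨c, ?_⟩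
  haveI : c.P.IsPrime := Ideal.IsPrime.comap _
  let S' := Localization.AtPrime c.P
  haveI : IsNoetherianRing S' := IsLocalization.isNoetherianRing c.P.primeCompl S' inferInstance
  let G : Ideal S' := Ideal.span (Set.range fun i => algebraMap R' S' (g i))
  have hgP : ∀ i, g i ∈ c.P := fun i => hspan.le (Ideal.subset_span ⟨i, rfl⟩)
  have hG : G = maximalIdeal S' := by
    refine le_antisymm (Ideal.span_le.2 ?_) fun x hx => ?_
    · rintro _ ⟨i, rfl⟩
      exact (IsLocalization.AtPrime.to_map_mem_maximal_iff S' c.P _).2 (hgP i)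
    obtain ⟨⟨b, s⟩, hbs⟩ := IsLocalization.surj c.P.primeCompl x
    have hb : b ∈ c.P := (IsLocalization.AtPrime.to_map_mem_maximal_iff S' c.P b).1
      (hbs ▸ Ideal.mul_mem_right _ _ hx)
    suffices algebraMap R' S' b ∈ G by
      rw [← hbs] at this
      exact (Ideal.mul_unit_mem_iff_mem _ (IsLocalization.map_units S' s)).1 this
    have hgsG : ∀ s, algebraMap R' S' (gs s) ∈ G := fun s => Ideal.subset_span ⟨e s, by simp [g]⟩
    have hXG : ∀ i : f, algebraMap R' S' (X (Sum.inr i : σ)) ∈ G := fun i => by
      simpa [gs] using hgsG (Sum.inr (Fintype.equivFin f i))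
    let z : R' →ₐ[k] R₁ := aeval (Sum.elim (fun v : ι₁ => (X v : R₁)) fun _ : f => (0 : R₁))
    have hzdiff : ∀ q : R', algebraMap R' S' q - algebraMap R' S' (rename Sum.inl (z q)) ∈ G := fun q => by
      induction q using MvPolynomial.induction_on with
      | C r => rw [show z (C r) = C r from aeval_C _ r, rename_C, sub_self]; exact zero_mem _
      | add a b ha hb => simp only [map_add, add_sub_add_comm]; exact add_mem ha hb
      | mul_X a v ha =>
        rcases v with v | v
        · rw [map_mul z, show z (X (Sum.inl v : σ)) = X v from aeval_X _ _, map_mul (rename Sum.inl), rename_X,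
            map_mul, map_mul, ← sub_mul]
          exact G.mul_mem_right _ ha
        · rw [map_mul z, show z (X (Sum.inr v : σ)) = 0 from aeval_X _ _, mul_zero, map_zero, map_zero, sub_zero,
            map_mul]
          exact G.mul_mem_left _ (hXG v)
    refine (Submodule.sub_mem_iff_left _ ?_).1 (hzdiff b)
    have hzb : z b ∈ P₁ := by
      have h1 : ev b - ev₁ (z b) ∈ maximalIdeal L := by
        have := hzdiff b
        rw [← map_sub] at this
        have h2 : b - rename Sum.inl (z b) ∈ c.P := by
          refine (IsLocalization.AtPrime.to_map_mem_maximal_iff S' c.P _).1 ((Ideal.span_le.2 ?_) this)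
          rintro _ ⟨i, rfl⟩
          exact (IsLocalization.AtPrime.to_map_mem_maximal_iff S' c.P _).2 (hgP i)
        rw [← hev₁ (z b), ← map_sub]
        exact h2
      have := Ideal.sub_mem _ (show ev b ∈ maximalIdeal L from hb) h1
      rwa [sub_sub_cancel] at this
    -- the first prime is generated after localization
    have hgen : maximalIdeal S₁ ≤ Ideal.span (Set.range fun j => algebraMap R₁ S₁ (g₀ j)) := by
      refine Submodule.le_of_le_smul_of_le_jacobson_bot (IsNoetherian.noetherian _)
        (IsLocalRing.maximalIdeal_le_jacobson ⊥) ?_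
      rw [Ideal.smul_eq_mul, ← pow_two]
      intro x hx
      have hb' : (maximalIdeal S₁).toCotangent ⟨x, hx⟩ ∈ (Submodule.comap (maximalIdeal S₁).subtype
          (Ideal.span (Set.range fun j => algebraMap R₁ S₁ (g₀ j)))).map (maximalIdeal S₁).toCotangent := by
        have hkey := bas₀.mem_span ((maximalIdeal S₁).toCotangent ⟨x, hx⟩)
        generalize (maximalIdeal S₁).toCotangent ⟨x, hx⟩ = w at hkey ⊢
        induction hkey using Submodule.span_induction with
        | mem z hz =>
          obtain ⟨j, rfl⟩ := hz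
          obtain ⟨u', hu'⟩ := residue_surjective (u j)⁻¹
          refine ⟨u' • ⟨_, hg₀m j⟩, Ideal.mul_mem_left _ _ (show algebraMap R₁ S₁ (g₀ j) ∈ Ideal.span (Set.range fun j => algebraMap R₁ S₁ (g₀ j)) from Ideal.subset_span ⟨j, rfl⟩), ?_⟩
          rw [map_smul, hgu j]
          show residue S₁ u' • (u j • bas₀ j) = _
          rw [hu', smul_smul, inv_mul_cancel₀ (hu j), one_smul]
        | zero => exact zero_mem _
        | add a b _ _ ha hb => exact add_mem ha hb
        | smul c a _ ha =>
          obtain ⟨c, rfl⟩ := residue_surjective c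
          exact Submodule.smul_mem _ c ha
      obtain ⟨j, hj, hjx⟩ := hb'
      rw [Ideal.toCotangent_eq] at hjx
      rw [← sub_sub_cancel (j : S₁) x]
      exact sub_mem (Submodule.mem_sup_left hj) (Submodule.mem_sup_right hjx)
    have h4 := hgen ((IsLocalization.AtPrime.to_map_mem_maximal_iff S₁ P₁ (z b)).2 hzb)
    rw [show (fun j => algebraMap R₁ S₁ (g₀ j)) = algebraMap R₁ S₁ ∘ g₀ from rfl, Set.range_comp, ← Ideal.map_span,
      IsLocalization.algebraMap_mem_map_algebraMap_iff P₁.primeCompl] at h4
    obtain ⟨t, ht, htz⟩ := h4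
    have h5 : algebraMap R' S' (rename Sum.inl t) * algebraMap R' S' (rename Sum.inl (z b)) ∈ G := by
      rw [← map_mul, ← map_mul]
      refine (Ideal.span_le.2 ?_ : Ideal.span (Set.range g₀) ≤
        G.comap ((algebraMap R' S').comp (rename Sum.inl : R₁ →ₐ[k] R').toRingHom)) htz
      rintro _ ⟨j, rfl⟩
      exact hgsG (Sum.inl j)
    refine (Ideal.unit_mul_mem_iff_mem _ ?_).1 h5
    refine IsLocalization.map_units S' (⟨rename Sum.inl t, fun ht' => ht ?_⟩ : c.P.primeCompl)
    have : ev (rename Sum.inl t) ∈ maximalIdeal L := ht'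
    rwa [hev₁] at this
  refine ⟨hG, ?_⟩
  have hevP : (maximalIdeal S').map c.evP = maximalIdeal L := by
    rw [← hG, Ideal.map_span, ← Set.range_comp]
    refine Eq.trans ?_ hspan
    congr 2
    funext i
    exact c.evP_algebraMap (g i)
  haveI : IsRegularLocalRing S' := inferInstance
  have hdim : ringKrullDim S' = d := by
    rw [← (isRegularLocalRing_iff S').1 inferInstance]
    refine le_antisymm ?_ ?_
    · rw [← hG]
      exact_mod_cast (Submodule.spanFinrank_span_le_ncard_of_finite (Set.finite_range _)).trans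
        ((by rw [← Set.image_univ]; exact (Set.ncard_image_le (Set.toFinite _)).trans_eq (by simp)) :
          (Set.range fun i => algebraMap R' S' (g i)).ncard ≤ d)
    · rw [← hd, ← (isRegularLocalRing_iff L).1 inferInstance]
      conv_lhs => rw [← hevP]
      exact_mod_cast Ideal.spanFinrank_map_le_of_fg _ (IsNoetherian.noetherian _)
  refine ⟨hdim, ?_⟩
  -- flatness
  letI : Algebra S' L := c.evP.toRingHom.toAlgebra
  haveI : IsScalarTower k S' L := IsScalarTower.of_algebraMap_eq fun x => (c.evP.commutes x).symm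
  haveI : IsLocalHom (algebraMap S' L) := ⟨fun a ha => by
    by_contra hna
    exact (maximalIdeal.isMaximal L).ne_top (Ideal.eq_top_of_isUnit_mem _
      (hevP ▸ Ideal.mem_map_of_mem c.evP (show a ∈ maximalIdeal S' from hna)) ha)⟩
  haveI : LocCoh.IsCohenMacaulayLocalRing L := Groth.Agent.DepthLib.isCohenMacaulayLocalRing_of_isRegularLocalRing
  haveI : Module.Flat S' L := Groth.Agent.Miracle4.flat_of_ringKrullDim_eq (by
    rw [show (maximalIdeal S').map (algebraMap S' L) = maximalIdeal L from hevP, hdim, hd,
      ringKrullDim_eq_zero_of_isField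
      ((Ideal.Quotient.maximal_ideal_iff_isField_quotient _).1 (maximalIdeal.isMaximal L)), add_zero])
  -- the map into the subalgebra
  have hevT₀ : ∀ x : R', Ideal.Quotient.mk (maximalIdeal L ^ N) (ev x) ∈ T₀ := fun x => by
    induction x using MvPolynomial.induction_on with
    | C r =>
      rw [show ev (C r) = algebraMap k L r from aeval_C _ r, ← Ideal.Quotient.algebraMap_eq,
        ← IsScalarTower.algebraMap_apply k L LN]
      exact T₀.algebraMap_mem r
    | add a b ha hb => rw [map_add, map_add]; exact add_mem ha hb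
    | mul_X a v ha =>
      rw [map_mul, map_mul]
      refine mul_mem ha ?_
      rw [show ev (X v) = Sum.elim (fun v => Y v.down) X₀ v from aeval_X _ _]
      rcases v with v | v
      · show Ideal.Quotient.mk _ (Y v.down) ∈ T₀
        rw [hY]; exact (y v.down).2
      · exact hX₀T v
  let φ₀ : R' →+* T₀ := ((Ideal.Quotient.mk (maximalIdeal L ^ N)).comp ev.toRingHom).codRestrict T₀ hevT₀
  let φ : S' →+* T₀ := IsLocalization.lift (M := c.P.primeCompl) (g := φ₀) fun s =>
    (isUnit_map_iff (algebraMap T₀ LN) (φ₀ s)).1 ((notMem_maximalIdeal.1 s.2).map (Ideal.Quotient.mk _))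
  have hφ : ∀ x, (φ x : LN) = Ideal.Quotient.mk _ (c.evP x) := fun x => by
    refine RingHom.congr_fun (IsLocalization.ringHom_ext c.P.primeCompl
      (j := (algebraMap T₀ LN).comp φ) (k := (Ideal.Quotient.mk (maximalIdeal L ^ N)).comp c.evP.toRingHom)
      (RingHom.ext fun r => ?_)) x
    show (φ (algebraMap R' S' r) : LN) = Ideal.Quotient.mk _ (c.evP (algebraMap R' S' r))
    rw [c.evP_algebraMap, IsLocalization.lift_eq]
    rfl
  letI : Algebra S' T₀ := φ.toAlgebra
  have hmapT : (maximalIdeal S').map (algebraMap S' T₀) = maximalIdeal T₀ := by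
    rw [← Ideal.comap_map_eq_self_of_faithfullyFlat (B := LN) ((maximalIdeal S').map (algebraMap S' T₀)),
      Ideal.map_map, show (algebraMap T₀ LN).comp (algebraMap S' T₀) =
        (Ideal.Quotient.mk (maximalIdeal L ^ N)).comp c.evP.toRingHom from RingHom.ext hφ, ← Ideal.map_map,
      show (maximalIdeal S').map c.evP.toRingHom = maximalIdeal L from hevP,
      show (maximalIdeal L).map (Ideal.Quotient.mk (maximalIdeal L ^ N)) = maximalIdeal LN from hmLN, ← hTm]
    exact Ideal.comap_map_eq_self_of_faithfullyFlat (B := LN) (maximalIdeal T₀)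
  have hker : (maximalIdeal S' ^ N).map (algebraMap S' T₀) = ⊥ := by
    rw [Ideal.map_eq_bot_iff_le_ker]
    intro x hx
    rw [RingHom.mem_ker]
    apply Subtype.ext
    show (φ x : LN) = _
    rw [hφ]
    refine Ideal.Quotient.eq_zero_iff_mem.2 ?_
    rw [← hevP, ← Ideal.map_pow]
    exact Ideal.mem_map_of_mem _ hx
  let T' := S' ⧸ maximalIdeal S' ^ N
  letI : CommRing T' := Ideal.Quotient.commRing _
  letI : Algebra T' T₀ := (Ideal.Quotient.lift _ φ fun x hx => RingHom.mem_ker.1
    ((Ideal.map_eq_bot_iff_le_ker _).1 hker hx)).toAlgebra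
  haveI : IsScalarTower S' T' T₀ := ⟨fun a b c => by
    obtain ⟨b, rfl⟩ := Ideal.Quotient.mk_surjective b
    show φ (a * b) * c = φ a * (φ b * c)
    rw [map_mul, mul_assoc]⟩
  refine ⟨T₀, inferInstance, inferInstance, algebraMap T₀ LN, hφ, fun e he => ⟨⟨e, hET he⟩, rfl⟩,
    Subtype.val_injective, fun {r} a x hx => ?_, hker, inferInstance, inferInstance, ?_⟩
  · rw [← Ideal.comap_map_eq_self_of_faithfullyFlat (B := LN) (Ideal.span (Set.range a)), Ideal.mem_comap,
      Ideal.map_span, ← Set.range_comp]
    exact hx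
  -- étale
  have hN' : maximalIdeal S' ^ N ≠ ⊤ := fun h =>
    (maximalIdeal.isMaximal S').ne_top (top_le_iff.1 (h ▸ Ideal.pow_le_self (by omega)))
  haveI : Nontrivial T' := Ideal.Quotient.nontrivial_iff.2 hN'
  haveI : IsLocalRing T' := IsLocalRing.of_surjective' (Ideal.Quotient.mk _) Ideal.Quotient.mk_surjective
  have hmT' : (maximalIdeal S').map (Ideal.Quotient.mk (maximalIdeal S' ^ N)) = maximalIdeal T' :=
    IsLocalRing.map_maximalIdeal_of_surjective _ Ideal.Quotient.mk_surjective
  have hmapT' : Ideal.map (algebraMap T' ↥T₀) (maximalIdeal T') = maximalIdeal ↥T₀ := by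
    rw [← hmT', Ideal.map_map]; exact hmapT
  haveI : Module.Flat T' T₀ := by
    have hf : Module.Flat T' (L ⧸ (maximalIdeal S' ^ N).map (algebraMap S' L)) :=
      Groth.Agent.Lib.SmoothingH7.flat_quotient_map (maximalIdeal S' ^ N)
    have hI : (maximalIdeal S' ^ N).map (algebraMap S' L) = maximalIdeal L ^ N := by
      rw [Ideal.map_pow]; exact congrArg (· ^ N) hevP
    have hflat : ((algebraMap T₀ LN).comp (algebraMap T' T₀)).Flat := by
      letI := ((algebraMap T₀ LN).comp (algebraMap T' T₀)).toAlgebra
      refine Module.Flat.of_linearEquiv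
        { __ := (Ideal.quotEquivOfEq hI).symm.toAddEquiv
          map_smul' := fun x y => ?_ }
      obtain ⟨x, rfl⟩ := Ideal.Quotient.mk_surjective x
      obtain ⟨y, rfl⟩ := Ideal.Quotient.mk_surjective y
      show (Ideal.quotEquivOfEq hI).symm ((φ x : LN) * Ideal.Quotient.mk _ y) = _
      rw [hφ, ← map_mul]
      rfl
    exact WEtaleH7.flat_of_comp_faithfullyFlat (algebraMap T' T₀) (algebraMap T₀ LN) (RingHom.faithfullyFlat_algebraMap_iff.2 inferInstance) hflat
  haveI : IsLocalHom (algebraMap T' T₀) := ⟨fun a ha => by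
    by_contra hna
    exact (maximalIdeal.isMaximal T₀).ne_top (Ideal.eq_top_of_isUnit_mem _
      (hmapT' ▸ Ideal.mem_map_of_mem _ (show a ∈ maximalIdeal T' from hna)) ha)⟩
  letI : Algebra R' T₀ := φ₀.toAlgebra
  haveI : IsScalarTower R' S' T₀ := IsScalarTower.of_algebraMap_eq fun x => (IsLocalization.lift_eq _ x).symm
  haveI : IsScalarTower k R' T₀ := IsScalarTower.of_algebraMap_eq fun x => Subtype.ext (by
    show ((algebraMap k T₀ x : T₀) : LN) = Ideal.Quotient.mk _ (ev (algebraMap k R' x))
    rw [ev.commutes]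
    rfl)
  haveI : Algebra.EssFiniteType R' T₀ := Algebra.EssFiniteType.of_comp k R' T₀
  haveI : Algebra.EssFiniteType S' T₀ := Algebra.EssFiniteType.of_comp R' S' T₀
  haveI : Algebra.EssFiniteType T' T₀ := Algebra.EssFiniteType.of_comp S' T' T₀
  haveI : IsScalarTower S' (ResidueField T') E₀ := IsScalarTower.of_algebraMap_eq fun x => rfl
  haveI : Algebra.EssFiniteType (ResidueField T') E₀ := by
    haveI : Algebra.EssFiniteType T' E₀ := Algebra.EssFiniteType.comp T' T₀ E₀
    exact Algebra.EssFiniteType.of_comp T' (ResidueField T') E₀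
  haveI : Algebra.FormallyUnramified (ResidueField T') E₀ := by
    haveI : Algebra.FormallyUnramified R' E₀ := by
      rw [Algebra.formallyUnramified_iff]
      refine subsingleton_of_forall_eq 0 fun w => ?_
      have hw : w ∈ Submodule.span E₀ (Set.range (KaehlerDifferential.D R' E₀)) := by
        rw [KaehlerDifferential.span_range_derivation]; trivial
      have hD : ∀ x, KaehlerDifferential.D R' E₀ x = 0 := fun x => by
        rw [show KaehlerDifferential.D R' E₀ x = KaehlerDifferential.map k R' E₀ E₀ (KaehlerDifferential.D k E₀ x)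
          from (KaehlerDifferential.map_D k R' E₀ E₀ x).symm]
        have hx : KaehlerDifferential.D k E₀ x ∈ Submodule.span E₀
            (Set.range fun v => KaehlerDifferential.D k E₀ (y₀ v)) := hysp ▸ Submodule.mem_top
        generalize KaehlerDifferential.D k E₀ x = dx at hx ⊢
        induction hx using Submodule.span_induction with
        | mem z hz =>
          obtain ⟨v, rfl⟩ := hz
          rw [KaehlerDifferential.map_D, ← hy v,
            show (residue T₀ (y v)) = algebraMap R' E₀ (X (Sum.inl (ULift.up v) : σ)) from ?_]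
          · exact Derivation.map_algebraMap _ _
          show residue T₀ (y v) = residue T₀ (φ₀ (X (Sum.inl (ULift.up v) : σ)))
          congr 1
          apply Subtype.ext
          show (y v : LN) = Ideal.Quotient.mk _ (ev (X (Sum.inl (ULift.up v) : σ)))
          rw [show ev (X (Sum.inl (ULift.up v) : σ)) = Y v from aeval_X _ _, hY]
        | zero => exact map_zero _
        | add a b _ _ ha hb => rw [map_add, ha, hb, add_zero]
        | smul a b _ hb => rw [map_smul, hb, smul_zero]
      induction hw using Submodule.span_induction with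
      | mem z hz => obtain ⟨x, rfl⟩ := hz; exact hD x
      | zero => rfl
      | add a b _ _ ha hb => rw [ha, hb, add_zero]
      | smul a b _ hb => rw [hb, smul_zero]
    haveI : IsScalarTower R' (ResidueField T') E₀ := IsScalarTower.of_algebraMap_eq fun x => by
      rw [IsScalarTower.algebraMap_apply R' S' (ResidueField T'), ← IsScalarTower.algebraMap_apply S' (ResidueField T') E₀,
        ← IsScalarTower.algebraMap_apply R' S' E₀]
    exact Algebra.FormallyUnramified.of_restrictScalars R' (ResidueField T') E₀
  haveI : Algebra.IsSeparable (ResidueField T') E₀ := Algebra.FormallyUnramified.isSeparable _ _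
  haveI : Algebra.FormallyUnramified T' T₀ := Algebra.FormallyUnramified.of_map_maximalIdeal hmapT'
  haveI : Module.Finite T' T₀ := by
    haveI : Module.Finite (ResidueField T') E₀ := Algebra.FormallyUnramified.finite_of_free _ _
    haveI : Module.Finite T' E₀ := by
      haveI : Module.Finite T' (ResidueField T') :=
        Module.Finite.of_surjective (Algebra.linearMap T' (ResidueField T')) residue_surjective
      exact Module.Finite.trans (ResidueField T') E₀
    obtain ⟨G₀, hG₀⟩ := (inferInstance : Module.Finite T' E₀).fg_top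
    choose v hv using fun x : G₀ => residue_surjective (R := T₀) x.1
    let M : Submodule T' T₀ := Submodule.span T' (Set.range v)
    have h1 : ∀ j : ℕ, (⊤ : Submodule T' T₀) ≤ M ⊔ maximalIdeal T' ^ j • ⊤ := by
      intro j
      induction j with
      | zero => rw [pow_zero, Ideal.one_eq_top, Submodule.top_smul]; exact le_sup_right
      | succ j ih =>
        refine ih.trans (sup_le le_sup_left ?_)
        have hstep : (⊤ : Submodule T' T₀) ≤ M ⊔ maximalIdeal T' • ⊤ := fun t _ => by
          have ht : residue T₀ t ∈ Submodule.span T' (G₀ : Set E₀) := hG₀.symm ▸ Submodule.mem_top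
          have hmem : ∀ z ∈ Submodule.span T' (G₀ : Set E₀), ∃ m ∈ M, residue T₀ m = z := by
            intro z hz
            induction hz using Submodule.span_induction with
            | mem z hz => exact ⟨v ⟨z, hz⟩, Submodule.subset_span ⟨_, rfl⟩, hv ⟨z, hz⟩⟩
            | zero => exact ⟨0, zero_mem _, map_zero _⟩
            | add a b _ _ ha hb =>
              obtain ⟨m, hm, rfl⟩ := ha
              obtain ⟨m', hm', rfl⟩ := hb
              exact ⟨m + m', add_mem hm hm', map_add _ _ _⟩
            | smul c a _ ha =>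
              obtain ⟨m, hm, rfl⟩ := ha
              exact ⟨c • m, Submodule.smul_mem _ c hm, ((IsScalarTower.toAlgHom T' T₀ E₀).toLinearMap.map_smul c m)⟩
          obtain ⟨m, hm, hmt⟩ := hmem _ ht
          have hd : t - m ∈ maximalIdeal T₀ := by rw [← residue_eq_zero_iff, map_sub, hmt, sub_self]
          rw [← hmapT', ← Submodule.restrictScalars_mem T', ← Ideal.smul_top_eq_map] at hd
          rw [← add_sub_cancel m t]
          exact Submodule.add_mem_sup hm hd
        calc maximalIdeal T' ^ j • (⊤ : Submodule T' T₀)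
            ≤ maximalIdeal T' ^ j • (M ⊔ maximalIdeal T' • ⊤) := Submodule.smul_mono le_rfl hstep
          _ = maximalIdeal T' ^ j • M ⊔ maximalIdeal T' ^ (j + 1) • ⊤ := by
            rw [Submodule.smul_sup, pow_succ, Submodule.mul_smul]
          _ ≤ M ⊔ maximalIdeal T' ^ (j + 1) • ⊤ := sup_le_sup_right Submodule.smul_le_right _
    have h2 := h1 N
    rw [show maximalIdeal T' ^ N = ⊥ by rw [← hmT', ← Ideal.map_pow]; exact Ideal.map_quotient_self _,
      Submodule.bot_smul, sup_bot_eq] at h2
    exact ⟨⟨Finset.univ.image v, top_le_iff.1 (by simpa [M] using h2)⟩⟩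
  haveI : IsNoetherianRing T' := inferInstance
  haveI : Algebra.FiniteType T' T₀ := inferInstance
  haveI : Algebra.FinitePresentation T' T₀ := Algebra.FinitePresentation.of_finiteType.1 inferInstance
  exact Algebra.Etale.of_formallyUnramified_of_flat

end Groth.Agent.InsepH7
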